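import Mathlib
import Cfsg.Prelude.Def_Amalgam
import Cfsg.Agent.Lib.Fitting.Basic
import Cfsg.Agent.S2740
import Cfsg.Agent.S2741
import Cfsg.Agent.S2746

/-!
Basic facts about amalgam pairs of characteristic p: vertex stabilisers are finite of characteristic p,
Sylow subgroups of edge stabilisers are Sylow in both vertex stabilisers, `Z_δ ≤ Q_δ`, the critical
distance is positive.
-/

set_option autoImplicit false
set_option linter.style.haveILetI false
open Cfsg
open scoped commutatorElement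

namespace CfsgLib.Amalgam

variable {X : Type*} [Group X] {p : ℕ} [Fact p.Prime] {M₁ M₂ : Subgroup X}

theorem finite_stabilizer (h : Cfsg.IsCharPAmalgamPair p M₁ M₂) (δ : Cfsg.CosetVertex M₁ M₂) :
    Finite ↥(MulAction.stabilizer X δ) := by
  obtain ⟨-, hf1, hf2, -⟩ := h
  rcases δ with v | v <;> induction v using QuotientGroup.induction_on with | H x => ?_
  · rw [Cfsg.Agent.S2741.stab_inl]
    exact Finite.of_equiv _ (M₁.equivMapOfInjective _ (MulAut.conj x).injective).toEquiv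
  · rw [Cfsg.Agent.S2741.stab_inr]
    exact Finite.of_equiv _ (M₂.equivMapOfInjective _ (MulAut.conj x).injective).toEquiv

theorem finite_edge (h : Cfsg.IsCharPAmalgamPair p M₁ M₂) (δ μ : Cfsg.CosetVertex M₁ M₂) :
    Finite ↥(Cfsg.edgeStabilizer δ μ) := by
  haveI := finite_stabilizer h δ
  exact Finite.of_injective (Subgroup.inclusion (inf_le_left :
    Cfsg.edgeStabilizer δ μ ≤ MulAction.stabilizer X δ)) (Subgroup.inclusion_injective _)

theorem edge_factorization (h : Cfsg.IsCharPAmalgamPair p M₁ M₂) {δ μ : Cfsg.CosetVertex M₁ M₂}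
    (hadj : (Cfsg.cosetGraph M₁ M₂).Adj δ μ) :
    (Nat.card ↥(Cfsg.edgeStabilizer δ μ)).factorization p =
      (Nat.card ↥(MulAction.stabilizer X δ)).factorization p := by
  obtain ⟨-, hf1, hf2, -, -, hsyl, -, -⟩ := h
  haveI : Finite ↥(M₁ ⊓ M₂) :=
    Finite.of_injective (Subgroup.inclusion (inf_le_left : M₁ ⊓ M₂ ≤ M₁)) (Subgroup.inclusion_injective _)
  obtain ⟨S0⟩ := (inferInstance : Nonempty (Sylow p ↥(M₁ ⊓ M₂)))
  obtain ⟨P1⟩ := (inferInstance : Nonempty (Sylow p M₁))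
  obtain ⟨P2⟩ := (inferInstance : Nonempty (Sylow p M₂))
  obtain ⟨e1, e2⟩ := hsyl S0 P1 P2
  rw [S0.card_eq_multiplicity, P1.card_eq_multiplicity] at e1
  rw [S0.card_eq_multiplicity, P2.card_eq_multiplicity] at e2
  have f1 := Nat.pow_right_injective (Fact.out : p.Prime).two_le e1
  have f2 := Nat.pow_right_injective (Fact.out : p.Prime).two_le e2
  obtain ⟨-, h | h⟩ := hadj <;> obtain ⟨x, rfl, rfl⟩ := h <;>
    unfold Cfsg.edgeStabilizer <;>
    rw [Cfsg.Agent.S2741.stab_inl, Cfsg.Agent.S2741.stab_inr,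
      ← Subgroup.map_inf _ _ _ (MulAut.conj x).injective, Cfsg.Agent.S2746.fact_conj,
      Cfsg.Agent.S2746.fact_conj]
  · exact f1
  · rw [inf_comm]; exact f2

theorem charP_of_equiv {A B : Type*} [Group A] [Group B] (e : A ≃* B)
    (h : Subgroup.centralizer (Cfsg.pCore p A : Set A) ≤ Cfsg.pCore p A) :
    Subgroup.centralizer (Cfsg.pCore p B : Set B) ≤ Cfsg.pCore p B := by
  haveI := CfsgLib.Fitting.pCore_normal (G := A) p
  have hle : (Cfsg.pCore p A).map e.toMonoidHom ≤ Cfsg.pCore p B :=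
    CfsgLib.Fitting.le_pCore ((inferInstance : (Cfsg.pCore p A).Normal).map _ e.surjective)
      ((CfsgLib.Fitting.pCore_isPGroup p).map _)
  intro b hb
  have ha : e.symm b ∈ Subgroup.centralizer (Cfsg.pCore p A : Set A) := by
    rw [Subgroup.mem_centralizer_iff]
    intro q hq
    apply e.injective
    simp only [map_mul, MulEquiv.apply_symm_apply]
    exact Subgroup.mem_centralizer_iff.mp hb (e q) (hle ⟨q, hq, rfl⟩)
  exact hle ⟨e.symm b, h ha, e.apply_symm_apply b⟩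

theorem stab_charP (h : Cfsg.IsCharPAmalgamPair p M₁ M₂) (δ : Cfsg.CosetVertex M₁ M₂) :
    Subgroup.centralizer (Cfsg.pCore p ↥(MulAction.stabilizer X δ) : Set ↥(MulAction.stabilizer X δ)) ≤
      Cfsg.pCore p ↥(MulAction.stabilizer X δ) := by
  obtain ⟨-, -, -, -, -, -, hc1, hc2⟩ := h
  rcases δ with v | v <;> induction v using QuotientGroup.induction_on with | H x => ?_
  · rw [Cfsg.Agent.S2741.stab_inl]
    exact charP_of_equiv (M₁.equivMapOfInjective _ (MulAut.conj x).injective) hc1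
  · rw [Cfsg.Agent.S2741.stab_inr]
    exact charP_of_equiv (M₂.equivMapOfInjective _ (MulAut.conj x).injective) hc2

/-- An element of a vertex stabiliser centralising `Q_δ` lies in `Q_δ`. -/
theorem mem_vertexQ (h : Cfsg.IsCharPAmalgamPair p M₁ M₂) (δ : Cfsg.CosetVertex M₁ M₂) {g : X}
    (hg : g ∈ MulAction.stabilizer X δ)
    (hc : g ∈ Subgroup.centralizer (Cfsg.vertexQ p δ : Set X)) : g ∈ Cfsg.vertexQ p δ := by
  have : (⟨g, hg⟩ : ↥(MulAction.stabilizer X δ)) ∈
      Subgroup.centralizer (Cfsg.pCore p ↥(MulAction.stabilizer X δ) : Set _) := by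
    rw [Subgroup.mem_centralizer_iff]
    intro q hq
    exact Subtype.ext (Subgroup.mem_centralizer_iff.mp hc (q : X) ⟨q, hq, rfl⟩)
  exact ⟨_, stab_charP h δ this, rfl⟩

theorem vertexQ_le_sylow (h : Cfsg.IsCharPAmalgamPair p M₁ M₂) (δ : Cfsg.CosetVertex M₁ M₂)
    (S : Sylow p ↥(MulAction.stabilizer X δ)) :
    Cfsg.vertexQ p δ ≤
      (S : Subgroup ↥(MulAction.stabilizer X δ)).map (MulAction.stabilizer X δ).subtype := by
  haveI := finite_stabilizer h δ
  haveI := CfsgLib.Fitting.pCore_normal (G := ↥(MulAction.stabilizer X δ)) p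
  exact Subgroup.map_mono (IsPGroup.le_sylow_of_normal (CfsgLib.Fitting.pCore_isPGroup p) S)

theorem omega_le (T : Subgroup X) : Cfsg.omegaOne p T ≤ T :=
  (Subgroup.closure_le _).mpr fun _ hx => hx.1

theorem vertexZ_le_vertexQ (h : Cfsg.IsCharPAmalgamPair p M₁ M₂) (δ : Cfsg.CosetVertex M₁ M₂) :
    Cfsg.vertexZ p δ ≤ Cfsg.vertexQ p δ := by
  refine iSup_le fun S => (omega_le _).trans fun g hg => ?_
  exact mem_vertexQ h δ (Subgroup.map_subtype_le _ hg.1)
    (Subgroup.centralizer_le (fun q hq => vertexQ_le_sylow h δ S hq) hg.2)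

theorem vertexZ_le_neighbourKernel (h : Cfsg.IsCharPAmalgamPair p M₁ M₂)
    (δ : Cfsg.CosetVertex M₁ M₂) : Cfsg.vertexZ p δ ≤ Cfsg.neighbourKernel δ :=
  (vertexZ_le_vertexQ h δ).trans (Cfsg.Agent.S2746.result M₁ M₂ h δ)

theorem neighbourKernel_le_stabilizer {δ μ : Cfsg.CosetVertex M₁ M₂}
    (hadj : (Cfsg.cosetGraph M₁ M₂).Adj δ μ) :
    Cfsg.neighbourKernel δ ≤ MulAction.stabilizer X μ :=
  inf_le_right.trans (iInf₂_le μ hadj)

theorem le_of_dist_lt {δ μ : Cfsg.CosetVertex M₁ M₂}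
    (hlt : (Cfsg.cosetGraph M₁ M₂).dist δ μ < Cfsg.criticalDistance p M₁ M₂) :
    Cfsg.vertexZ p δ ≤ Cfsg.neighbourKernel μ := by
  by_contra hnot
  exact absurd (Nat.sInf_le (s := {n : ℕ | ∃ δ μ : Cfsg.CosetVertex M₁ M₂,
    (Cfsg.cosetGraph M₁ M₂).dist δ μ = n ∧ ¬ Cfsg.vertexZ p δ ≤ Cfsg.neighbourKernel μ})
      ⟨δ, μ, rfl, hnot⟩) (not_le.mpr hlt)

theorem one_le_criticalDistance (h : Cfsg.IsCharPAmalgamPair p M₁ M₂) {α α' : Cfsg.CosetVertex M₁ M₂}
    (hc : Cfsg.IsCriticalPair p α α') : 1 ≤ Cfsg.criticalDistance p M₁ M₂ := by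
  rw [← hc.2]
  rw [Nat.one_le_iff_ne_zero]
  intro h0
  rw [(Cfsg.Agent.S2740.result M₁ M₂ h.1.1).dist_eq_zero_iff] at h0
  exact hc.1 (h0 ▸ vertexZ_le_neighbourKernel h α)

/-- The first step of a geodesic. -/
theorem exists_adj_dist (h : Cfsg.IsCharPAmalgamPair p M₁ M₂) {a c : Cfsg.CosetVertex M₁ M₂}
    (hne : a ≠ c) : ∃ b, (Cfsg.cosetGraph M₁ M₂).Adj a b ∧
      (Cfsg.cosetGraph M₁ M₂).dist b c + 1 = (Cfsg.cosetGraph M₁ M₂).dist a c := by
  have hconn := Cfsg.Agent.S2740.result M₁ M₂ h.1.1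
  obtain ⟨w, hw⟩ := hconn.exists_walk_length_eq_dist a c
  cases w with
  | nil => exact absurd rfl hne
  | @cons _ b _ hab w' =>
    refine ⟨b, hab, ?_⟩
    have h1 := SimpleGraph.dist_le w'
    have h2 : (Cfsg.cosetGraph M₁ M₂).dist a c ≤
        (Cfsg.cosetGraph M₁ M₂).dist a b + (Cfsg.cosetGraph M₁ M₂).dist b c :=
      hconn.dist_triangle
    rw [(SimpleGraph.dist_eq_one_iff_adj).mpr hab] at h2
    rw [SimpleGraph.Walk.length_cons] at hw
    omega

theorem omegaOne_conj (g : X) (T : Subgroup X) :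
    (Cfsg.omegaOne p (T ⊓ Subgroup.centralizer (T : Set X))).map (MulAut.conj g).toMonoidHom =
      Cfsg.omegaOne p (T.map (MulAut.conj g).toMonoidHom ⊓
        Subgroup.centralizer ((T.map (MulAut.conj g).toMonoidHom : Subgroup X) : Set X)) := by
  unfold Cfsg.omegaOne
  rw [MonoidHom.map_closure]
  congr 1
  ext x
  constructor
  · rintro ⟨y, ⟨⟨hy1, hy2⟩, hy3⟩, rfl⟩
    refine ⟨⟨Subgroup.mem_map_of_mem _ hy1, ?_⟩, by rw [← map_pow, hy3, map_one]⟩
    change _ ∈ Subgroup.centralizer _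
    rw [Subgroup.mem_centralizer_iff]
    rintro _ ⟨t, ht, rfl⟩
    rw [← map_mul, ← map_mul, Subgroup.mem_centralizer_iff.mp hy2 t ht]
  · rintro ⟨⟨⟨y, hy1, rfl⟩, hx2⟩, hx3⟩
    refine ⟨y, ⟨⟨hy1, ?_⟩, (MulAut.conj g).injective ?_⟩, rfl⟩
    · change _ ∈ Subgroup.centralizer _
      rw [Subgroup.mem_centralizer_iff]
      intro t ht
      apply (MulAut.conj g).injective
      have := Subgroup.mem_centralizer_iff.mp hx2 _ ⟨t, ht, rfl⟩
      simpa [map_mul] using this
    · simpa [map_pow] using hx3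

theorem map_conj_sylow (δ : Cfsg.CosetVertex M₁ M₂) (g : ↥(MulAction.stabilizer X δ))
    (S : Sylow p ↥(MulAction.stabilizer X δ)) :
    ((g • S : Sylow p ↥(MulAction.stabilizer X δ)) : Subgroup ↥(MulAction.stabilizer X δ)).map
        (MulAction.stabilizer X δ).subtype =
      ((S : Subgroup ↥(MulAction.stabilizer X δ)).map (MulAction.stabilizer X δ).subtype).map
        (MulAut.conj (g : X)).toMonoidHom := by
  rw [Sylow.coe_subgroup_smul]
  ext x
  constructor
  · rintro ⟨y, hy, rfl⟩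
    obtain ⟨z, hz, rfl⟩ := hy
    exact ⟨z, ⟨z, hz, rfl⟩, rfl⟩
  · rintro ⟨_, ⟨z, hz, rfl⟩, rfl⟩
    exact ⟨MulAut.conj g z, ⟨z, hz, rfl⟩, rfl⟩

theorem vertexZ_normalized (δ : Cfsg.CosetVertex M₁ M₂) :
    MulAction.stabilizer X δ ≤ Subgroup.normalizer (Cfsg.vertexZ p δ : Set X) := by
  have hle : ∀ g ∈ MulAction.stabilizer X δ,
      (Cfsg.vertexZ p δ).map (MulAut.conj g).toMonoidHom ≤ Cfsg.vertexZ p δ := by
    intro g hg
    unfold Cfsg.vertexZ Cfsg.sylowCenterClosure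
    rw [Subgroup.map_iSup]
    refine iSup_le fun S => ?_
    refine le_iSup_of_le ((⟨g, hg⟩ : ↥(MulAction.stabilizer X δ)) • S) ?_
    rw [map_conj_sylow, omegaOne_conj]
  intro g hg
  rw [Subgroup.mem_normalizer_iff]
  intro x
  constructor
  · exact fun hx => hle g hg ⟨x, hx, rfl⟩
  · intro hx
    have := hle g⁻¹ (Subgroup.inv_mem _ hg) ⟨_, hx, rfl⟩
    simpa [mul_assoc] using this

/-- A Sylow subgroup of an edge stabiliser is Sylow in the vertex stabiliser. -/
theorem exists_sylow_vertex (h : Cfsg.IsCharPAmalgamPair p M₁ M₂) {δ μ : Cfsg.CosetVertex M₁ M₂}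
    (hadj : (Cfsg.cosetGraph M₁ M₂).Adj δ μ) (S : Sylow p ↥(Cfsg.edgeStabilizer δ μ)) :
    ∃ P : Sylow p ↥(MulAction.stabilizer X δ),
      (P : Subgroup ↥(MulAction.stabilizer X δ)).map (MulAction.stabilizer X δ).subtype =
        (S : Subgroup ↥(Cfsg.edgeStabilizer δ μ)).map (Cfsg.edgeStabilizer δ μ).subtype := by
  haveI := finite_stabilizer h δ
  haveI := finite_edge h δ μ
  have hle : (S : Subgroup ↥(Cfsg.edgeStabilizer δ μ)).map (Cfsg.edgeStabilizer δ μ).subtype ≤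
      MulAction.stabilizer X δ := (Subgroup.map_subtype_le _).trans inf_le_left
  refine ⟨Sylow.ofCard (((S : Subgroup ↥(Cfsg.edgeStabilizer δ μ)).map
    (Cfsg.edgeStabilizer δ μ).subtype).subgroupOf (MulAction.stabilizer X δ)) ?_, ?_⟩
  · rw [Nat.card_congr (Subgroup.subgroupOfEquivOfLe hle).toEquiv,
      Subgroup.card_map_of_injective (Subgroup.subtype_injective _), S.card_eq_multiplicity,
      edge_factorization h hadj]
  · change ((_ : Subgroup X).subgroupOf _).map _ = _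
    rw [Subgroup.subgroupOf_map_subtype, inf_eq_left.mpr hle]

theorem exists_sylow_vertex_right (h : Cfsg.IsCharPAmalgamPair p M₁ M₂) {δ μ : Cfsg.CosetVertex M₁ M₂}
    (hadj : (Cfsg.cosetGraph M₁ M₂).Adj δ μ) (S : Sylow p ↥(Cfsg.edgeStabilizer δ μ)) :
    ∃ P : Sylow p ↥(MulAction.stabilizer X μ),
      (P : Subgroup ↥(MulAction.stabilizer X μ)).map (MulAction.stabilizer X μ).subtype =
        (S : Subgroup ↥(Cfsg.edgeStabilizer δ μ)).map (Cfsg.edgeStabilizer δ μ).subtype := by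
  haveI := finite_stabilizer h μ
  haveI := finite_edge h δ μ
  have hle : (S : Subgroup ↥(Cfsg.edgeStabilizer δ μ)).map (Cfsg.edgeStabilizer δ μ).subtype ≤
      MulAction.stabilizer X μ := (Subgroup.map_subtype_le _).trans inf_le_right
  have e : Cfsg.edgeStabilizer μ δ = Cfsg.edgeStabilizer δ μ := inf_comm _ _
  refine ⟨Sylow.ofCard (((S : Subgroup ↥(Cfsg.edgeStabilizer δ μ)).map
    (Cfsg.edgeStabilizer δ μ).subtype).subgroupOf (MulAction.stabilizer X μ)) ?_, ?_⟩
  · rw [Nat.card_congr (Subgroup.subgroupOfEquivOfLe hle).toEquiv,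
      Subgroup.card_map_of_injective (Subgroup.subtype_injective _), S.card_eq_multiplicity,
      ← edge_factorization h hadj.symm, e]
  · change ((_ : Subgroup X).subgroupOf _).map _ = _
    rw [Subgroup.subgroupOf_map_subtype, inf_eq_left.mpr hle]

theorem pElementClosure_le (H : Subgroup X) : Cfsg.pElementClosure p H ≤ H :=
  (Subgroup.closure_le _).mpr fun _ hx => hx.1

theorem pGroup_le_pElementClosure {H T : Subgroup X} (hTH : T ≤ H) (hT : IsPGroup p T) :
    T ≤ Cfsg.pElementClosure p H := fun x hx =>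
  Subgroup.subset_closure ⟨hTH hx, (IsPGroup.iff_orderOf.mp hT ⟨x, hx⟩).imp fun k hk => by
    rwa [Subgroup.orderOf_mk] at hk⟩

theorem omega_center_le_vertexZ (δ : Cfsg.CosetVertex M₁ M₂)
    (S : Sylow p ↥(MulAction.stabilizer X δ)) {T : Subgroup X}
    (hT : T = (S : Subgroup ↥(MulAction.stabilizer X δ)).map (MulAction.stabilizer X δ).subtype) :
    Cfsg.omegaOne p (T ⊓ Subgroup.centralizer (T : Set X)) ≤ Cfsg.vertexZ p δ := by
  subst hT
  exact le_iSup (fun S : Sylow p ↥(MulAction.stabilizer X δ) => Cfsg.omegaOne p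
    (((S : Subgroup ↥(MulAction.stabilizer X δ)).map (MulAction.stabilizer X δ).subtype) ⊓
      Subgroup.centralizer (((S : Subgroup ↥(MulAction.stabilizer X δ)).map
        (MulAction.stabilizer X δ).subtype : Subgroup X) : Set X))) S

end CfsgLib.Amalgam
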