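import Cfsg.Agent.Lib.Amalgam.IterClosure
import Cfsg.Agent.Lib.Layer.CharP
import Cfsg.Agent.Lib.PReduced.Largest

/-!
Amalgam pairs of characteristic `2` with `|Mᵢ : O₂(Mᵢ)| = 6` and nowhere centralised `Ω₁(Z(T))`:
the local structure of the (trivalent) coset graph.
-/

set_option autoImplicit false
set_option linter.style.haveILetI false
set_option linter.unusedSectionVars false

open Cfsg
open scoped Pointwise

namespace CfsgLib.Amalgam.Cubic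

variable {X : Type*} [Group X] {M₁ M₂ : Subgroup X}

/-- The hypotheses. -/
structure Hyp (M₁ M₂ : Subgroup X) : Prop where
  pair : Cfsg.IsCharPAmalgamPair 2 M₁ M₂
  card₁ : Nat.card M₁ = 6 * Nat.card (Cfsg.pCore 2 M₁)
  card₂ : Nat.card M₂ = 6 * Nat.card (Cfsg.pCore 2 M₂)
  inter₁ : Nat.card ↥(M₁ ⊓ M₂) = 2 * Nat.card (Cfsg.pCore 2 M₁)
  inter₂ : Nat.card ↥(M₁ ⊓ M₂) = 2 * Nat.card (Cfsg.pCore 2 M₂)
  act₁ : ¬ M₁ ≤ Subgroup.centralizer
    (Cfsg.omegaOne 2 ((M₁ ⊓ M₂) ⊓ Subgroup.centralizer ((M₁ ⊓ M₂ : Subgroup X) : Set X)) : Set X)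
  act₂ : ¬ M₂ ≤ Subgroup.centralizer
    (Cfsg.omegaOne 2 ((M₁ ⊓ M₂) ⊓ Subgroup.centralizer ((M₁ ⊓ M₂ : Subgroup X) : Set X)) : Set X)

local notation "Adj" => SimpleGraph.Adj (Cfsg.cosetGraph M₁ M₂)
local notation "St" => MulAction.stabilizer X
local notation "Ed" => Cfsg.edgeStabilizer (M₁ := M₁) (M₂ := M₂)
local notation "QQ" => Cfsg.vertexQ (M₁ := M₁) (M₂ := M₂) 2
local notation "ZZ" => Cfsg.vertexZ (M₁ := M₁) (M₂ := M₂) 2

/-- `Ω₁(Z(E))` for an edge stabiliser `E`. -/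
def z0 (δ μ : Cfsg.CosetVertex M₁ M₂) : Subgroup X where
  carrier := {x | x ∈ Ed δ μ ∧ (∀ e ∈ Ed δ μ, e * x = x * e) ∧ x * x = 1}
  one_mem' := ⟨one_mem _, fun e _ => by simp, by simp⟩
  mul_mem' := by
    rintro a b ⟨ha, ha', ha2⟩ ⟨hb, hb', hb2⟩
    refine ⟨mul_mem ha hb, fun e he => ?_, ?_⟩
    · rw [← mul_assoc, ha' e he, mul_assoc, hb' e he, mul_assoc]
    · rw [mul_assoc, ← mul_assoc b, hb' a ha |>.symm, mul_assoc a b b, hb2, mul_one, ha2]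
  inv_mem' := by
    rintro a ⟨ha, ha', ha2⟩
    rw [inv_eq_of_mul_eq_one_right ha2]
    exact ⟨ha, ha', ha2⟩

theorem mem_z0 {δ μ : Cfsg.CosetVertex M₁ M₂} {x : X} :
    x ∈ z0 δ μ ↔ x ∈ Ed δ μ ∧ (∀ e ∈ Ed δ μ, e * x = x * e) ∧ x * x = 1 := Iff.rfl

theorem z0_comm (δ μ : Cfsg.CosetVertex M₁ M₂) : z0 δ μ = z0 μ δ := by
  have e : Ed δ μ = Ed μ δ := inf_comm _ _
  ext x
  rw [mem_z0, mem_z0, e]

theorem z0_le (δ μ : Cfsg.CosetVertex M₁ M₂) : z0 δ μ ≤ Ed δ μ := fun _ hx => hx.1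

theorem z0_eq_omega (δ μ : Cfsg.CosetVertex M₁ M₂) :
    Cfsg.omegaOne 2 (Ed δ μ ⊓ Subgroup.centralizer (Ed δ μ : Set X)) = z0 δ μ := by
  refine le_antisymm ((Subgroup.closure_le _).mpr fun x hx => ?_) fun x hx => ?_
  · exact ⟨hx.1.1, fun e he => Subgroup.mem_centralizer_iff.mp hx.1.2 e he, by rw [← pow_two]; exact hx.2⟩
  · exact Subgroup.subset_closure
      ⟨⟨hx.1, Subgroup.mem_centralizer_iff.mpr hx.2.1⟩, by rw [pow_two]; exact hx.2.2⟩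

theorem mem_cj {H : Subgroup X} {g x : X} :
    x ∈ H.map (MulAut.conj g).toMonoidHom ↔ g⁻¹ * x * g ∈ H :=
  Cfsg.Agent.S2741.mem_conj_map H g x

theorem edge_smul (g : X) (δ μ : Cfsg.CosetVertex M₁ M₂) :
    Ed (g • δ) (g • μ) = (Ed δ μ).map (MulAut.conj g).toMonoidHom := by
  unfold Cfsg.edgeStabilizer
  rw [stabilizer_smul', stabilizer_smul']
  exact (Subgroup.map_inf _ _ _ (MulAut.conj g).injective).symm

theorem mem_z0_smul {g : X} {δ μ : Cfsg.CosetVertex M₁ M₂} {x : X} (hx : x ∈ z0 δ μ) :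
    g * x * g⁻¹ ∈ z0 (g • δ) (g • μ) := by
  obtain ⟨h1, h2, h3⟩ := hx
  refine ⟨?_, fun e he => ?_, ?_⟩
  · rw [edge_smul]; exact ⟨x, h1, rfl⟩
  · rw [edge_smul, mem_cj] at he
    calc e * (g * x * g⁻¹) = g * ((g⁻¹ * e * g) * x) * g⁻¹ := by group
      _ = g * (x * (g⁻¹ * e * g)) * g⁻¹ := by rw [h2 _ he]
      _ = g * x * g⁻¹ * e := by group
  · rw [conj_mul, h3, mul_one, mul_inv_cancel]

/-- A subgroup of index two in a finite group, by orders. -/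
theorem two_coset {H K : Subgroup X} [Finite K] (hle : H ≤ K) (hc : Nat.card K = 2 * Nat.card H)
    {g k : X} (hg : g ∈ K) (hk : k ∈ K) (hg' : g ∉ H) (hk' : k ∉ H) : g * k ∈ H := by
  have h2 : (H.subgroupOf K).index = 2 := by
    have h1 := (H.subgroupOf K).index_mul_card
    rw [Nat.card_congr (Subgroup.subgroupOfEquivOfLe hle).toEquiv, hc] at h1
    haveI : Finite H := Finite.of_injective _ (Subgroup.inclusion_injective hle)
    exact Nat.eq_of_mul_eq_mul_right Nat.card_pos h1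
  have := (Subgroup.mul_mem_iff_of_index_two h2 (a := (⟨g, hg⟩ : K)) (b := ⟨k, hk⟩)).mpr
    ⟨fun a => absurd (Subgroup.mem_subgroupOf.mp a) hg', fun a => absurd (Subgroup.mem_subgroupOf.mp a) hk'⟩
  exact Subgroup.mem_subgroupOf.mp this

theorem eq_of_le_of_card {H K : Subgroup X} [Finite K] (hle : H ≤ K) (hc : Nat.card K ≤ Nat.card H) :
    H = K :=
  Subgroup.eq_of_le_of_card_ge hle hc

namespace Hyp

variable (h : Hyp M₁ M₂)
include h

theorem finite_St (δ : Cfsg.CosetVertex M₁ M₂) : Finite ↥(St δ) := finite_stabilizer h.pair δ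

theorem finite_le {δ : Cfsg.CosetVertex M₁ M₂} {H : Subgroup X} (hH : H ≤ St δ) : Finite H := by
  haveI := h.finite_St δ
  exact Finite.of_injective _ (Subgroup.inclusion_injective hH)

theorem finite_Q (δ : Cfsg.CosetVertex M₁ M₂) : Finite ↥(QQ δ) :=
  h.finite_le (Subgroup.map_subtype_le _)

theorem finite_Ed (δ μ : Cfsg.CosetVertex M₁ M₂) : Finite ↥(Ed δ μ) :=
  h.finite_le inf_le_left

theorem cards {δ μ : Cfsg.CosetVertex M₁ M₂} (hadj : Adj δ μ) :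
    Nat.card ↥(St δ) = 6 * Nat.card ↥(QQ δ) ∧ Nat.card ↥(Ed δ μ) = 2 * Nat.card ↥(QQ δ) := by
  have key : ∀ (H : Subgroup X) (x : X), St δ = H.map (MulAut.conj x).toMonoidHom →
      Nat.card ↥(QQ δ) = Nat.card (Cfsg.pCore 2 H) := by
    intro H x e
    show Nat.card ↥((Cfsg.pCore 2 ↥(St δ)).map (St δ).subtype) = _
    rw [Subgroup.card_map_of_injective (St δ).subtype_injective, e,
      ← CfsgLib.CharCore.map_pCore (p := 2) (H.equivMapOfInjective _ (MulAut.conj x).injective)]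
    exact Subgroup.card_map_of_injective (MulEquiv.injective _)
  obtain ⟨-, h' | h'⟩ := hadj <;> obtain ⟨x, rfl, rfl⟩ := h'
  · rw [key M₁ x (Cfsg.Agent.S2741.stab_inl M₁ M₂ x), Cfsg.edgeStabilizer,
      Cfsg.Agent.S2741.stab_inl, Cfsg.Agent.S2741.stab_inr,
      ← Subgroup.map_inf _ _ _ (MulAut.conj x).injective]
    exact ⟨(Subgroup.card_map_of_injective (MulAut.conj x).injective).trans h.card₁,
      (Subgroup.card_map_of_injective (MulAut.conj x).injective).trans h.inter₁⟩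
  · rw [key M₂ x (Cfsg.Agent.S2741.stab_inr M₁ M₂ x), Cfsg.edgeStabilizer,
      Cfsg.Agent.S2741.stab_inl, Cfsg.Agent.S2741.stab_inr,
      ← Subgroup.map_inf _ _ _ (MulAut.conj x).injective, inf_comm M₂ M₁]
    exact ⟨(Subgroup.card_map_of_injective (MulAut.conj x).injective).trans h.card₂,
      (Subgroup.card_map_of_injective (MulAut.conj x).injective).trans h.inter₂⟩

theorem Q_pos (δ : Cfsg.CosetVertex M₁ M₂) : 0 < Nat.card ↥(QQ δ) := by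
  haveI := h.finite_Q δ
  exact Nat.card_pos

theorem not_act {δ μ : Cfsg.CosetVertex M₁ M₂} (hadj : Adj δ μ) :
    ∃ g ∈ St δ, ∃ z ∈ z0 δ μ, g * z ≠ z * g := by
  have base : ∀ H : Subgroup X, ¬ H ≤ Subgroup.centralizer
      (Cfsg.omegaOne 2 ((M₁ ⊓ M₂) ⊓ Subgroup.centralizer ((M₁ ⊓ M₂ : Subgroup X) : Set X)) : Set X) →
      ∃ g ∈ H, ∃ z : X, (z ∈ M₁ ⊓ M₂ ∧ (∀ e ∈ M₁ ⊓ M₂, e * z = z * e) ∧ z * z = 1) ∧ g * z ≠ z * g := by
    intro H hH
    by_contra! hall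
    refine hH fun g hg => Subgroup.mem_centralizer_iff.mpr fun z hz => ?_
    have : Cfsg.omegaOne 2 ((M₁ ⊓ M₂) ⊓ Subgroup.centralizer ((M₁ ⊓ M₂ : Subgroup X) : Set X)) ≤
        Subgroup.centralizer {g} := by
      refine (Subgroup.closure_le _).mpr fun y hy => ?_
      rw [SetLike.mem_coe, Subgroup.mem_centralizer_singleton_iff]
      exact (hall g hg y ⟨hy.1.1, fun e he => Subgroup.mem_centralizer_iff.mp hy.1.2 e he,
        by rw [← pow_two]; exact hy.2⟩).symm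
    exact Subgroup.mem_centralizer_singleton_iff.mp (this hz)
  have lift : ∀ (x : X) (H : Subgroup X), St δ = H.map (MulAut.conj x).toMonoidHom →
      Ed δ μ = (M₁ ⊓ M₂).map (MulAut.conj x).toMonoidHom →
      (∃ g ∈ H, ∃ z : X, (z ∈ M₁ ⊓ M₂ ∧ (∀ e ∈ M₁ ⊓ M₂, e * z = z * e) ∧ z * z = 1) ∧
        g * z ≠ z * g) → ∃ g ∈ St δ, ∃ z ∈ z0 δ μ, g * z ≠ z * g := by
    rintro x H eS eE ⟨g, hg, z, ⟨h1, h2, h3⟩, hne⟩
    refine ⟨x * g * x⁻¹, eS ▸ ⟨g, hg, rfl⟩, x * z * x⁻¹, ⟨eE ▸ ⟨z, h1, rfl⟩, fun e he => ?_, ?_⟩, ?_⟩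
    · rw [eE, mem_cj] at he
      calc e * (x * z * x⁻¹) = x * ((x⁻¹ * e * x) * z) * x⁻¹ := by group
        _ = x * (z * (x⁻¹ * e * x)) * x⁻¹ := by rw [h2 _ he]
        _ = x * z * x⁻¹ * e := by group
    · rw [conj_mul, h3, mul_one, mul_inv_cancel]
    · intro e
      rw [conj_mul, conj_mul] at e
      exact hne (mul_left_cancel (mul_right_cancel e))
  obtain ⟨-, h' | h'⟩ := hadj <;> obtain ⟨x, rfl, rfl⟩ := h'
  · exact lift x M₁ (Cfsg.Agent.S2741.stab_inl M₁ M₂ x) ((Cfsg.Agent.S2741.result M₁ M₂ x).2.2)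
      (base M₁ h.act₁)
  · exact lift x M₂ (Cfsg.Agent.S2741.stab_inr M₁ M₂ x)
      ((inf_comm _ _).trans (Cfsg.Agent.S2741.result M₁ M₂ x).2.2) (base M₂ h.act₂)

theorem isPGroup_edge {δ μ : Cfsg.CosetVertex M₁ M₂} (hadj : Adj δ μ) : IsPGroup 2 ↥(Ed δ μ) := by
  haveI : Fact (Nat.Prime 2) := ⟨Nat.prime_two⟩
  haveI := h.finite_Q δ
  have hp : IsPGroup 2 ↥(QQ δ) := (CfsgLib.Fitting.pCore_isPGroup (G := ↥(St δ)) 2).map (St δ).subtype
  obtain ⟨n, hn⟩ := hp.exists_card_eq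
  exact IsPGroup.of_card (n := n + 1) (by rw [(h.cards hadj).2, show Nat.card ↥(QQ δ) = 2 ^ n from hn, pow_succ'])

theorem Q_le_edge {δ μ : Cfsg.CosetVertex M₁ M₂} (hadj : Adj δ μ) : QQ δ ≤ Ed δ μ :=
  le_inf (Subgroup.map_subtype_le _)
    ((Cfsg.Agent.S2746.result M₁ M₂ h.pair δ).trans (neighbourKernel_le_stabilizer hadj))

theorem Q_le_edge' {δ μ : Cfsg.CosetVertex M₁ M₂} (hadj : Adj δ μ) : QQ μ ≤ Ed δ μ :=
  (h.Q_le_edge hadj.symm).trans (inf_comm _ _).le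

theorem St_le_normalizer_Q (δ : Cfsg.CosetVertex M₁ M₂) :
    St δ ≤ Subgroup.normalizer (QQ δ : Set X) :=
  CfsgLib.PReduced.le_normalizer_pCoreOf 2 (St δ)

/-- A normal subgroup of a vertex stabiliser inside an edge stabiliser lies in `Q`. -/
theorem le_Q_of_normal {δ μ : Cfsg.CosetVertex M₁ M₂} (hadj : Adj δ μ) {K : Subgroup X}
    (hK : K ≤ Ed δ μ) (hn : St δ ≤ Subgroup.normalizer (K : Set X)) : K ≤ QQ δ := by
  have hKS : K ≤ St δ := hK.trans inf_le_left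
  have := Subgroup.map_mono (f := (St δ).subtype) (CfsgLib.Fitting.le_pCore (p := 2)
    ((Subgroup.normal_subgroupOf_iff_le_normalizer hKS).mpr hn)
    (((h.isPGroup_edge hadj).to_le hK).comap_of_injective (St δ).subtype (St δ).subtype_injective))
  rwa [Subgroup.map_subgroupOf_eq_of_le hKS] at this

theorem edge_maximal {δ μ : Cfsg.CosetVertex M₁ M₂} (hadj : Adj δ μ) {H : Subgroup X}
    (h1 : Ed δ μ ≤ H) (h2 : H ≤ St δ) (h3 : H ≠ Ed δ μ) : H = St δ := by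
  haveI := h.finite_St δ
  haveI := h.finite_le h2
  obtain ⟨cS, cE⟩ := h.cards hadj
  have q := h.Q_pos δ
  obtain ⟨a, ha⟩ := Subgroup.card_dvd_of_le h1
  obtain ⟨b, hb⟩ := Subgroup.card_dvd_of_le h2
  rw [cE] at ha
  rw [cS, ha] at hb
  have hab : a * b = 3 := by
    refine Nat.eq_of_mul_eq_mul_left (by omega : 0 < 2 * Nat.card ↥(QQ δ)) ?_
    rw [← mul_assoc, ← hb]; ring
  rcases (Nat.dvd_prime Nat.prime_three).mp ⟨b, hab.symm⟩ with rfl | rfl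
  · exact absurd (eq_of_le_of_card h1 (by rw [ha, cE]; omega)).symm h3
  · refine eq_of_le_of_card h2 ?_
    rw [cS, ha]; omega

theorem edge_self_normalizing {δ μ : Cfsg.CosetVertex M₁ M₂} (hadj : Adj δ μ) :
    St δ ⊓ Subgroup.normalizer (Ed δ μ : Set X) = Ed δ μ := by
  by_contra hne
  have := h.edge_maximal hadj (H := St δ ⊓ Subgroup.normalizer (Ed δ μ : Set X))
    (le_inf inf_le_left Subgroup.le_normalizer) inf_le_left hne
  have hle := h.le_Q_of_normal hadj le_rfl (this ▸ inf_le_right)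
  haveI := h.finite_Q δ
  have := Subgroup.card_le_of_le hle
  rw [(h.cards hadj).2] at this
  have := h.Q_pos δ
  omega

theorem edge_inj {δ μ μ' : Cfsg.CosetVertex M₁ M₂} (hadj : Adj δ μ) (hadj' : Adj δ μ')
    (e : Ed δ μ = Ed δ μ') : μ = μ' := by
  obtain ⟨g, hg, rfl⟩ := Cfsg.Agent.S2744.result M₁ M₂ δ μ μ' hadj hadj'
  have h1 : (Ed δ μ).map (MulAut.conj g).toMonoidHom = Ed δ μ := by
    rw [← edge_smul, MulAction.mem_stabilizer_iff.mp hg, ← e]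
  have h2 : g ∈ St δ ⊓ Subgroup.normalizer (Ed δ μ : Set X) := by
    refine ⟨hg, ?_⟩
    show g ∈ Subgroup.normalizer _
    rw [Subgroup.mem_normalizer_iff]
    intro x
    constructor
    · intro hx; exact h1.le ⟨x, hx, rfl⟩
    · intro hx
      have := h1.ge hx
      rw [mem_cj] at this
      simpa [mul_assoc] using this
  rw [h.edge_self_normalizing hadj] at h2
  exact (MulAction.mem_stabilizer_iff.mp h2.2).symm

theorem sup_edges {δ μ μ' : Cfsg.CosetVertex M₁ M₂} (hadj : Adj δ μ) (hadj' : Adj δ μ')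
    (hne : μ ≠ μ') : Ed δ μ ⊔ Ed δ μ' = St δ := by
  haveI := h.finite_le (inf_le_left : Ed δ μ ≤ St δ)
  refine h.edge_maximal hadj le_sup_left (sup_le inf_le_left inf_le_left) fun e => hne ?_
  refine h.edge_inj hadj hadj' (eq_of_le_of_card (H := Ed δ μ') (K := Ed δ μ) ?_ ?_).symm
  · exact le_sup_right.trans e.le
  · rw [(h.cards hadj).2, (h.cards hadj').2]

theorem inf_edges {δ μ μ' : Cfsg.CosetVertex M₁ M₂} (hadj : Adj δ μ) (hadj' : Adj δ μ')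
    (hne : μ ≠ μ') : Ed δ μ ⊓ Ed δ μ' = QQ δ := by
  haveI := h.finite_le (inf_le_left : Ed δ μ ≤ St δ)
  haveI : Finite ↥(Ed δ μ ⊓ Ed δ μ') := h.finite_le (inf_le_left.trans inf_le_left)
  have hQ : QQ δ ≤ Ed δ μ ⊓ Ed δ μ' := le_inf (h.Q_le_edge hadj) (h.Q_le_edge hadj')
  refine (eq_of_le_of_card hQ ?_).symm
  obtain ⟨-, cE⟩ := h.cards hadj
  obtain ⟨a, ha⟩ := Subgroup.card_dvd_of_le hQ
  obtain ⟨b, hb⟩ := Subgroup.card_dvd_of_le (inf_le_left : Ed δ μ ⊓ Ed δ μ' ≤ Ed δ μ)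
  have q := h.Q_pos δ
  rw [cE, ha] at hb
  have hab : a * b = 2 := Nat.eq_of_mul_eq_mul_left q (by rw [← mul_assoc, ← hb]; ring)
  rcases (Nat.dvd_prime Nat.prime_two).mp ⟨b, hab.symm⟩ with rfl | rfl
  · rw [ha]; omega
  · exfalso
    haveI := h.finite_Ed δ μ'
    refine hne (h.edge_inj hadj hadj' (eq_of_le_of_card (H := Ed δ μ) (K := Ed δ μ') ?_ ?_))
    · exact (eq_of_le_of_card (inf_le_left : Ed δ μ ⊓ Ed δ μ' ≤ Ed δ μ) (by rw [ha, cE]; omega)).ge.trans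
        inf_le_right
    · rw [cE, (h.cards hadj').2]

theorem orbit_ncard {δ μ : Cfsg.CosetVertex M₁ M₂} (hadj : Adj δ μ) :
    (MulAction.orbit ↥(St δ) μ).ncard = 3 := by
  haveI := h.finite_St δ
  refine (MulAction.index_stabilizer ↥(St δ) μ).symm.trans ?_
  have e : MulAction.stabilizer ↥(St δ) μ = (Ed δ μ).subgroupOf (St δ) := by
    ext g
    rw [MulAction.mem_stabilizer_iff, Subgroup.mem_subgroupOf]
    exact ⟨fun e => ⟨g.2, e⟩, fun e => e.2⟩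
  rw [e]
  have h1 := ((Ed δ μ).subgroupOf (St δ)).index_mul_card
  rw [Nat.card_congr (Subgroup.subgroupOfEquivOfLe (inf_le_left : Ed δ μ ≤ St δ)).toEquiv,
    (h.cards hadj).1, (h.cards hadj).2] at h1
  have q := h.Q_pos δ
  exact Nat.eq_of_mul_eq_mul_right (by omega : 0 < 2 * Nat.card ↥(QQ δ)) (by rw [h1]; ring)

theorem mem_orbit {δ μ ν : Cfsg.CosetVertex M₁ M₂} (hadj : Adj δ μ) (hν : Adj δ ν) :
    ν ∈ MulAction.orbit ↥(St δ) μ := by
  obtain ⟨g, hg, rfl⟩ := Cfsg.Agent.S2744.result M₁ M₂ δ μ ν hadj hν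
  exact ⟨⟨g, hg⟩, rfl⟩

theorem adj_of_mem_orbit {δ μ ν : Cfsg.CosetVertex M₁ M₂} (hadj : Adj δ μ)
    (hν : ν ∈ MulAction.orbit ↥(St δ) μ) : Adj δ ν := by
  obtain ⟨⟨g, hg⟩, rfl⟩ := hν
  have := Cfsg.Agent.S2745.adj_smul g hadj
  rwa [MulAction.mem_stabilizer_iff.mp hg] at this

theorem exists_other {δ μ : Cfsg.CosetVertex M₁ M₂} (hadj : Adj δ μ) : ∃ ν, Adj δ ν ∧ ν ≠ μ := by
  by_contra! hall
  have hsub : MulAction.orbit ↥(St δ) μ ⊆ {μ} := fun ν hν => hall ν (h.adj_of_mem_orbit hadj hν)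
  have := Set.ncard_le_ncard hsub
  rw [h.orbit_ncard hadj, Set.ncard_singleton] at this
  omega

theorem triple {δ μ ν₁ ν₂ : Cfsg.CosetVertex M₁ M₂} (hadj : Adj δ μ) (h1 : Adj δ ν₁) (h2 : Adj δ ν₂)
    (n1 : ν₁ ≠ μ) (n2 : ν₂ ≠ μ) (n12 : ν₁ ≠ ν₂) {ν : Cfsg.CosetVertex M₁ M₂} (hν : Adj δ ν) :
    ν = μ ∨ ν = ν₁ ∨ ν = ν₂ := by
  haveI := h.finite_St δ
  have hsub : ({μ, ν₁, ν₂} : Set (Cfsg.CosetVertex M₁ M₂)) ⊆ MulAction.orbit ↥(St δ) μ := by
    rintro z (rfl | rfl | rfl)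
    · exact MulAction.mem_orbit_self _
    · exact h.mem_orbit hadj h1
    · exact h.mem_orbit hadj h2
  have hc : ({μ, ν₁, ν₂} : Set (Cfsg.CosetVertex M₁ M₂)).ncard = 3 := by
    rw [Set.ncard_insert_of_notMem (by simp [n1.symm, n2.symm]), Set.ncard_pair n12]
  have := Set.eq_of_subset_of_ncard_le hsub (by rw [hc, h.orbit_ncard hadj]) (Set.finite_range _)
  have hm := h.mem_orbit hadj hν
  rw [← this] at hm
  simpa using hm

theorem moves {δ μ ν : Cfsg.CosetVertex M₁ M₂} (hadj : Adj δ μ) (hν : Adj δ ν) (hne : ν ≠ μ) {g : X}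
    (hg : g ∈ Ed δ μ) (hgQ : g ∉ QQ δ) : g • ν ≠ ν ∧ g • ν ≠ μ ∧ Adj δ (g • ν) := by
  refine ⟨fun e => hgQ ?_, fun e => hne ?_, ?_⟩
  · rw [← h.inf_edges hadj hν hne.symm]
    exact ⟨hg, hg.1, e⟩
  · have e' : g⁻¹ • μ = μ := MulAction.mem_stabilizer_iff.mp (inv_mem hg.2)
    rw [← inv_smul_smul g ν, e, e']
  · have := Cfsg.Agent.S2745.adj_smul g hν
    rwa [MulAction.mem_stabilizer_iff.mp hg.1] at this

theorem le_normalizer_of_mem {δ μ : Cfsg.CosetVertex M₁ M₂} (hadj : Adj δ μ) {g : X}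
    (hg : g ∈ St δ) (hgE : g ∉ Ed δ μ) {N : Subgroup X} (hE : Ed δ μ ≤ N) (hgN : g ∈ N) :
    St δ ≤ N := by
  have := h.edge_maximal hadj (H := N ⊓ St δ) (le_inf hE inf_le_left) inf_le_right
    (fun e => hgE (e ▸ ⟨hgN, hg⟩))
  exact this ▸ inf_le_left

theorem exists_mem_edge {δ μ : Cfsg.CosetVertex M₁ M₂} (hadj : Adj δ μ) :
    ∃ g ∈ Ed δ μ, g ∉ QQ δ := by
  by_contra! hall
  haveI := h.finite_Q δ
  have := Subgroup.card_le_of_le (hall : Ed δ μ ≤ QQ δ)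
  rw [(h.cards hadj).2] at this
  have := h.Q_pos δ
  omega

theorem kernel_eq (δ : Cfsg.CosetVertex M₁ M₂) : Cfsg.neighbourKernel δ = QQ δ := by
  refine le_antisymm ?_ (Cfsg.Agent.S2746.result M₁ M₂ h.pair δ)
  obtain ⟨μ, hμ⟩ := exists_adj h.pair δ
  obtain ⟨ν, hν, hne⟩ := h.exists_other hμ
  rw [← h.inf_edges hμ hν hne.symm]
  exact le_inf (le_inf inf_le_left (neighbourKernel_le_stabilizer hμ))
    (le_inf inf_le_left (neighbourKernel_le_stabilizer hν))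

theorem smul_Q {g : X} {δ : Cfsg.CosetVertex M₁ M₂} {x : X} (hx : x ∈ QQ δ) :
    g * x * g⁻¹ ∈ QQ (g • δ) := by
  obtain ⟨μ, hμ⟩ := exists_adj h.pair δ
  obtain ⟨ν, hν, hne⟩ := h.exists_other hμ
  rw [← h.inf_edges hμ hν hne.symm] at hx
  rw [← h.inf_edges (Cfsg.Agent.S2745.adj_smul g hμ) (Cfsg.Agent.S2745.adj_smul g hν)
    (fun e => hne (smul_left_cancel g e).symm), edge_smul, edge_smul]
  exact ⟨⟨x, hx.1, rfl⟩, ⟨x, hx.2, rfl⟩⟩

theorem smul_Q_iff {g : X} {δ : Cfsg.CosetVertex M₁ M₂} {x : X} :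
    x ∈ QQ (g • δ) ↔ g⁻¹ * x * g ∈ QQ δ := by
  constructor
  · intro hx
    have := h.smul_Q (g := g⁻¹) hx
    rwa [inv_smul_smul, inv_inv] at this
  · intro hx
    have := h.smul_Q (g := g) hx
    simpa [mul_assoc] using this

theorem smul_Z {g : X} {δ : Cfsg.CosetVertex M₁ M₂} {x : X} (hx : x ∈ ZZ δ) :
    g * x * g⁻¹ ∈ ZZ (g • δ) := by
  haveI : Fact (Nat.Prime 2) := ⟨Nat.prime_two⟩
  exact vertexZ_smul_le h.pair g δ ⟨x, hx, rfl⟩

theorem z0_le_Z {δ μ : Cfsg.CosetVertex M₁ M₂} (hadj : Adj δ μ) : z0 δ μ ≤ ZZ δ := by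
  haveI : Fact (Nat.Prime 2) := ⟨Nat.prime_two⟩
  haveI := h.finite_le (inf_le_left : Ed δ μ ≤ St δ)
  obtain ⟨S⟩ := (inferInstance : Nonempty (Sylow 2 ↥(Ed δ μ)))
  have hS : (S : Subgroup ↥(Ed δ μ)) = ⊤ :=
    (S.is_maximal' ((h.isPGroup_edge hadj).of_injective (⊤ : Subgroup ↥(Ed δ μ)).subtype
      Subtype.coe_injective) le_top).symm
  obtain ⟨P, hP⟩ := exists_sylow_vertex h.pair hadj S
  rw [hS, ← MonoidHom.range_eq_map, Subgroup.range_subtype] at hP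
  rw [← z0_eq_omega]
  exact omega_center_le_vertexZ δ P hP.symm

theorem Z_le {δ : Cfsg.CosetVertex M₁ M₂} {H : Subgroup X}
    (hall : ∀ ν, Adj δ ν → z0 δ ν ≤ H) : ZZ δ ≤ H := by
  haveI : Fact (Nat.Prime 2) := ⟨Nat.prime_two⟩
  haveI := h.finite_St δ
  obtain ⟨μ, hμ⟩ := exists_adj h.pair δ
  haveI := h.finite_le (inf_le_left : Ed δ μ ≤ St δ)
  obtain ⟨S⟩ := (inferInstance : Nonempty (Sylow 2 ↥(Ed δ μ)))
  have hS : (S : Subgroup ↥(Ed δ μ)) = ⊤ :=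
    (S.is_maximal' ((h.isPGroup_edge hμ).of_injective (⊤ : Subgroup ↥(Ed δ μ)).subtype
      Subtype.coe_injective) le_top).symm
  obtain ⟨P, hP⟩ := exists_sylow_vertex h.pair hμ S
  rw [hS, ← MonoidHom.range_eq_map, Subgroup.range_subtype] at hP
  refine iSup_le fun S' => ?_
  obtain ⟨g, rfl⟩ := MulAction.exists_smul_eq ↥(St δ) P S'
  rw [map_conj_sylow, hP, ← edge_smul, MulAction.mem_stabilizer_iff.mp g.2, z0_eq_omega]
  exact hall _ (h.adj_of_mem_orbit hμ ⟨g, rfl⟩)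

theorem Z_le_Q (δ : Cfsg.CosetVertex M₁ M₂) : ZZ δ ≤ QQ δ := by
  haveI : Fact (Nat.Prime 2) := ⟨Nat.prime_two⟩
  exact vertexZ_le_vertexQ h.pair δ

theorem Z_comm_Q {δ : Cfsg.CosetVertex M₁ M₂} {q z : X} (hq : q ∈ QQ δ) (hz : z ∈ ZZ δ) :
    q * z = z * q := by
  have : ZZ δ ≤ Subgroup.centralizer {q} := h.Z_le fun ν hν x hx => by
    rw [Subgroup.mem_centralizer_singleton_iff]
    exact (hx.2.1 q (h.Q_le_edge hν hq)).symm
  exact (Subgroup.mem_centralizer_singleton_iff.mp (this hz)).symm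

theorem Z_sq {δ : Cfsg.CosetVertex M₁ M₂} {z : X} (hz : z ∈ ZZ δ) : z * z = 1 := by
  let H : Subgroup X :=
    { carrier := {x | x ∈ ZZ δ ∧ x * x = 1}
      one_mem' := ⟨one_mem _, one_mul 1⟩
      mul_mem' := fun {a b} ha hb => ⟨mul_mem ha.1 hb.1, by
        rw [mul_assoc, ← mul_assoc b, h.Z_comm_Q (h.Z_le_Q δ hb.1) ha.1, mul_assoc a b b, hb.2,
          mul_one, ha.2]⟩
      inv_mem' := fun {a} ha => by rw [inv_eq_of_mul_eq_one_right ha.2]; exact ha }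
  exact (h.Z_le (H := H) (fun ν hν x hx => ⟨h.z0_le_Z hν hx, hx.2.2⟩) hz).2

theorem Z_inv {δ : Cfsg.CosetVertex M₁ M₂} {z : X} (hz : z ∈ ZZ δ) : z⁻¹ = z :=
  inv_eq_of_mul_eq_one_right (h.Z_sq hz)

theorem St_le_normalizer_Z (δ : Cfsg.CosetVertex M₁ M₂) :
    St δ ≤ Subgroup.normalizer (ZZ δ : Set X) := by
  haveI : Fact (Nat.Prime 2) := ⟨Nat.prime_two⟩
  exact vertexZ_normalized δ

theorem mem_z0_of_commute {δ μ : Cfsg.CosetVertex M₁ M₂} (hadj : Adj δ μ) {z : X} (hz : z ∈ ZZ δ)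
    (hc : ∀ e ∈ Ed δ μ, e * z = z * e) : z ∈ z0 δ μ :=
  ⟨h.Q_le_edge hadj (h.Z_le_Q δ hz), hc, h.Z_sq hz⟩

/-- An element centralised by both vertex stabilisers of an edge is trivial. -/
theorem eq_one_of_centralized {δ μ : Cfsg.CosetVertex M₁ M₂} (hadj : Adj δ μ) {x : X}
    (hx : x ∈ Ed δ μ) (h1 : ∀ g ∈ St δ, g * x = x * g) (h2 : ∀ g ∈ St μ, g * x = x * g) : x = 1 := by
  have hle : ∀ v : Cfsg.CosetVertex M₁ M₂, (∀ g ∈ St v, g * x = x * g) →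
      ∀ g ∈ St v, g ∈ Subgroup.normalizer (Subgroup.zpowers x : Set X) := by
    intro v hv g hg
    rw [Subgroup.mem_normalizer_iff]
    have hc : ∀ i : ℤ, g * x ^ i = x ^ i * g := fun i => ((show Commute g x from hv g hg).zpow_right i).eq
    intro y
    constructor
    · rintro ⟨i, rfl⟩
      exact ⟨i, by simp [hc i]⟩
    · rintro ⟨i, hi⟩
      refine ⟨i, mul_left_cancel (a := g) ?_⟩
      simp only at hi ⊢
      rw [hc i, hi]; group
  have := Cfsg.Agent.S2745.result M₁ M₂ h.pair.1 δ μ hadj (Subgroup.zpowers x)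
    (Subgroup.zpowers_le.mpr hx)
    (fun ν ν' hν hν' => by
      obtain ⟨g, hg, e⟩ := Cfsg.Agent.S2744.result M₁ M₂ δ ν ν' hν hν'
      exact ⟨g, ⟨hle δ h1 g hg, hg⟩, e⟩)
    (fun ν ν' hν hν' => by
      obtain ⟨g, hg, e⟩ := Cfsg.Agent.S2744.result M₁ M₂ μ ν ν' hν hν'
      exact ⟨g, ⟨hle μ h2 g hg, hg⟩, e⟩)
  exact Subgroup.zpowers_eq_bot.mp this

/-- A subgroup of an edge stabiliser normalised by both vertex stabilisers is trivial. -/
theorem eq_bot_of_normalized {δ μ : Cfsg.CosetVertex M₁ M₂} (hadj : Adj δ μ) {U : Subgroup X}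
    (hU : U ≤ Ed δ μ) (h1 : St δ ≤ Subgroup.normalizer (U : Set X))
    (h2 : St μ ≤ Subgroup.normalizer (U : Set X)) : U = ⊥ :=
  Cfsg.Agent.S2745.result M₁ M₂ h.pair.1 δ μ hadj U hU
    (fun ν ν' hν hν' => by
      obtain ⟨g, hg, e⟩ := Cfsg.Agent.S2744.result M₁ M₂ δ ν ν' hν hν'
      exact ⟨g, ⟨h1 hg, hg⟩, e⟩)
    (fun ν ν' hν hν' => by
      obtain ⟨g, hg, e⟩ := Cfsg.Agent.S2744.result M₁ M₂ μ ν ν' hν hν'
      exact ⟨g, ⟨h2 hg, hg⟩, e⟩)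

theorem mem_Q_of_commute {δ : Cfsg.CosetVertex M₁ M₂} {g : X} (hg : g ∈ St δ)
    (hc : ∀ z ∈ ZZ δ, g * z = z * g) : g ∈ QQ δ := by
  let K : Subgroup X :=
    { carrier := {x | x ∈ St δ ∧ ∀ z ∈ ZZ δ, x * z = z * x}
      one_mem' := ⟨one_mem _, fun z _ => by simp⟩
      mul_mem' := fun {a b} ha hb => ⟨mul_mem ha.1 hb.1, fun z hz => by
        rw [mul_assoc, hb.2 z hz, ← mul_assoc, ha.2 z hz, mul_assoc]⟩
      inv_mem' := fun {a} ha => ⟨inv_mem ha.1, fun z hz =>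
        ((show Commute a z from ha.2 z hz).inv_left).eq⟩ }
  obtain ⟨μ, hμ⟩ := exists_adj h.pair δ
  by_contra hgQ
  have hKn : St δ ≤ Subgroup.normalizer (K : Set X) := by
    have key : ∀ k ∈ St δ, ∀ x ∈ K, k * x * k⁻¹ ∈ K := fun k hk x hx =>
      ⟨mul_mem (mul_mem hk hx.1) (inv_mem hk), fun z hz => by
        have hz' := (Subgroup.mem_normalizer_iff.mp (h.St_le_normalizer_Z δ (inv_mem hk)) z).mp hz
        rw [inv_inv] at hz'
        calc k * x * k⁻¹ * z = k * (x * (k⁻¹ * z * k)) * k⁻¹ := by group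
          _ = k * ((k⁻¹ * z * k) * x) * k⁻¹ := by rw [hx.2 _ hz']
          _ = z * (k * x * k⁻¹) := by group⟩
    intro k hk
    rw [Subgroup.mem_normalizer_iff]
    refine fun x => ⟨key k hk x, fun hx => ?_⟩
    simpa [mul_assoc] using key k⁻¹ (inv_mem hk) _ hx
  have hKE : ¬ K ≤ Ed δ μ := fun hle => hgQ (h.le_Q_of_normal hμ hle hKn ⟨hg, hc⟩)
  obtain ⟨k, hk, hkE⟩ := SetLike.not_le_iff_exists.mp hKE
  obtain ⟨s, hs, z, hz, hne⟩ := h.not_act hμ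
  refine hne ?_
  have hle : St δ ≤ Subgroup.centralizer {z} := h.le_normalizer_of_mem hμ hk.1 hkE
    (fun e he => Subgroup.mem_centralizer_singleton_iff.mpr (hz.2.1 e he))
    (Subgroup.mem_centralizer_singleton_iff.mpr (hk.2 z (h.z0_le_Z hμ hz)))
  exact Subgroup.mem_centralizer_singleton_iff.mp (hle hs)

/-- An element of `z0` commuting with something outside the edge stabiliser is central in `St δ`. -/
theorem central_of_commute {δ μ : Cfsg.CosetVertex M₁ M₂} (hadj : Adj δ μ) {x g : X}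
    (hx : ∀ e ∈ Ed δ μ, e * x = x * e) (hg : g ∈ St δ) (hgE : g ∉ Ed δ μ) (hc : g * x = x * g) :
    ∀ k ∈ St δ, k * x = x * k := fun k hk =>
  Subgroup.mem_centralizer_singleton_iff.mp (h.le_normalizer_of_mem hadj hg hgE
    (N := Subgroup.centralizer {x}) (fun e he => Subgroup.mem_centralizer_singleton_iff.mpr (hx e he))
    (Subgroup.mem_centralizer_singleton_iff.mpr hc) hk)

theorem Q_not_le {δ μ : Cfsg.CosetVertex M₁ M₂} (hadj : Adj δ μ) : ¬ QQ δ ≤ QQ μ := by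
  intro hle
  haveI := h.finite_Q μ
  have c1 := (h.cards hadj).2
  have c2 := (h.cards hadj.symm).2
  rw [show Ed μ δ = Ed δ μ from inf_comm _ _, c1] at c2
  have e := eq_of_le_of_card hle (by omega)
  have hbot := h.eq_bot_of_normalized hadj (h.Q_le_edge hadj) (h.St_le_normalizer_Q δ)
    (e ▸ h.St_le_normalizer_Q μ)
  obtain ⟨_, -, z, hz, hne⟩ := h.not_act hadj
  have h1 := (hbot ▸ h.Z_le_Q δ (h.z0_le_Z hadj hz) : z ∈ (⊥ : Subgroup X))
  rw [Subgroup.mem_bot] at h1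
  subst h1
  simp at hne

end Hyp

end CfsgLib.Amalgam.Cubic
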