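import Cfsg.Agent.Lib.Amalgam.CubicTwo

/-!
Trivalent amalgams with active centres: critical paths, and the critical distance is at most two.

The key notion: a vertex `δ` is *good* when `Z_ν' ≤ Z_ν Z_δ` for all neighbours `ν, ν'`.
-/

set_option autoImplicit false
set_option linter.style.haveILetI false
set_option linter.unusedSectionVars false

open Cfsg
open scoped Pointwise

namespace CfsgLib.Amalgam.Cubic

variable {X : Type*} [Group X] {M₁ M₂ : Subgroup X}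

local notation "Adj" => SimpleGraph.Adj (Cfsg.cosetGraph M₁ M₂)
local notation "dst" => SimpleGraph.dist (Cfsg.cosetGraph M₁ M₂)
local notation "St" => MulAction.stabilizer X
local notation "Ed" => Cfsg.edgeStabilizer (M₁ := M₁) (M₂ := M₂)
local notation "QQ" => Cfsg.vertexQ (M₁ := M₁) (M₂ := M₂) 2
local notation "ZZ" => Cfsg.vertexZ (M₁ := M₁) (M₂ := M₂) 2
local notation "bb" => Cfsg.criticalDistance 2 M₁ M₂

/-- A path of length `b` whose ends form a critical pair. -/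
def CP (p : ℕ → Cfsg.CosetVertex M₁ M₂) : Prop :=
  (∀ i < bb, Adj (p i) (p (i + 1))) ∧ ¬ ZZ (p 0) ≤ QQ (p bb)

/-- `Z_ν' ≤ Z_ν Z_δ` for all neighbours. -/
def Good (δ : Cfsg.CosetVertex M₁ M₂) : Prop :=
  ∀ ν ν', Adj δ ν → Adj δ ν' → ZZ ν' ≤ ZZ ν ⊔ ZZ δ

/-- The path `ν, p 0, p 1, ...`. -/
def shift (ν : Cfsg.CosetVertex M₁ M₂) (p : ℕ → Cfsg.CosetVertex M₁ M₂) : ℕ → Cfsg.CosetVertex M₁ M₂
  | 0 => ν
  | i + 1 => p i

/-- Same summand. -/
def SameSide (δ μ : Cfsg.CosetVertex M₁ M₂) : Prop := δ.isLeft = μ.isLeft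

theorem isLeft_ne_of_adj {δ μ : Cfsg.CosetVertex M₁ M₂} (hadj : Adj δ μ) : δ.isLeft ≠ μ.isLeft := by
  obtain ⟨-, h | h⟩ := hadj <;> obtain ⟨x, rfl, rfl⟩ := h <;> simp

theorem sameSide_of_two_steps {δ μ ν : Cfsg.CosetVertex M₁ M₂} (h1 : Adj δ μ) (h2 : Adj μ ν) :
    SameSide δ ν := by
  have a := isLeft_ne_of_adj h1
  have b := isLeft_ne_of_adj h2
  unfold SameSide
  revert a b
  cases δ.isLeft <;> cases μ.isLeft <;> cases ν.isLeft <;> simp

theorem exists_smul_of_sameSide {δ μ : Cfsg.CosetVertex M₁ M₂} (hs : SameSide δ μ) :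
    ∃ g : X, g • δ = μ := by
  unfold SameSide at hs
  rcases δ with u | u <;> rcases μ with v | v <;> simp at hs ⊢
  · obtain ⟨g, hg⟩ := MulAction.exists_smul_eq X u v
    exact ⟨g, hg⟩
  · obtain ⟨g, hg⟩ := MulAction.exists_smul_eq X u v
    exact ⟨g, hg⟩

namespace Hyp

variable (h : Hyp M₁ M₂)
include h

theorem connected : (Cfsg.cosetGraph M₁ M₂).Connected :=
  Cfsg.Agent.S2740.result M₁ M₂ h.pair.1.1

theorem le_Q_of_dist {δ μ : Cfsg.CosetVertex M₁ M₂} (hd : dst δ μ < bb) : ZZ δ ≤ QQ μ :=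
  (le_of_dist_lt hd).trans (h.kernel_eq μ).le

theorem comm_of_dist {δ μ : Cfsg.CosetVertex M₁ M₂} (hd : dst δ μ < bb) {z w : X} (hz : z ∈ ZZ δ)
    (hw : w ∈ ZZ μ) : z * w = w * z :=
  h.Z_comm_Q (h.le_Q_of_dist hd hz) hw

theorem le_St_of_dist {δ μ : Cfsg.CosetVertex M₁ M₂} (hd : dst δ μ ≤ bb) : ZZ δ ≤ St μ := by
  haveI : Fact (Nat.Prime 2) := ⟨Nat.prime_two⟩
  rcases eq_or_ne δ μ with rfl | hne
  · exact (h.Z_le_Q δ).trans (Subgroup.map_subtype_le _)
  · obtain ⟨ν, hν, hνd⟩ := exists_adj_dist h.pair hne.symm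
    have hlt : dst δ ν < bb := by
      rw [SimpleGraph.dist_comm] at hd
      rw [SimpleGraph.dist_comm]
      omega
    exact (le_of_dist_lt hlt).trans (neighbourKernel_le_stabilizer hν.symm)

theorem exists_CP : ∃ p : ℕ → Cfsg.CosetVertex M₁ M₂, CP p := by
  have hex : {n : ℕ | ∃ δ μ : Cfsg.CosetVertex M₁ M₂,
      dst δ μ = n ∧ ¬ ZZ δ ≤ Cfsg.neighbourKernel μ}.Nonempty := by
    by_contra hemp
    rw [Set.not_nonempty_iff_eq_empty] at hemp
    have hall : ∀ δ μ : Cfsg.CosetVertex M₁ M₂, ZZ δ ≤ Cfsg.neighbourKernel μ := by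
      intro δ μ
      by_contra hnot
      exact (Set.eq_empty_iff_forall_notMem.mp hemp _) ⟨δ, μ, rfl, hnot⟩
    let a : Cfsg.CosetVertex M₁ M₂ := Sum.inl ((1 : X) : X ⧸ M₁)
    obtain ⟨ν, hν⟩ := exists_adj h.pair a
    set Kk := (MulAction.toPermHom X (Cfsg.CosetVertex M₁ M₂)).ker with hK
    have hZK : ZZ a ≤ Kk := fun t ht => MonoidHom.mem_ker.mpr (Equiv.ext fun v =>
      MulAction.mem_stabilizer_iff.mp ((hall a v ht).1))
    have hKle : Kk ≤ M₁ ⊓ M₂ := by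
      intro g hg
      have e := fun v => congrArg (fun σ : Equiv.Perm (Cfsg.CosetVertex M₁ M₂) => σ v)
        (MonoidHom.mem_ker.mp hg)
      have e1 : g • (Sum.inl ((1 : X) : X ⧸ M₁) : Cfsg.CosetVertex M₁ M₂) = Sum.inl ((1 : X) : X ⧸ M₁) :=
        e (Sum.inl ((1 : X) : X ⧸ M₁))
      have e2 : g • (Sum.inr ((1 : X) : X ⧸ M₂) : Cfsg.CosetVertex M₁ M₂) = Sum.inr ((1 : X) : X ⧸ M₂) :=
        e (Sum.inr ((1 : X) : X ⧸ M₂))
      rw [Sum.smul_inl, Sum.inl.injEq, MulAction.Quotient.smul_coe, smul_eq_mul, eq_comm, QuotientGroup.eq] at e1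
      rw [Sum.smul_inr, Sum.inr.injEq, MulAction.Quotient.smul_coe, smul_eq_mul, eq_comm, QuotientGroup.eq] at e2
      exact ⟨by simpa using e1, by simpa using e2⟩
    have hb := hZK.trans (le_of_eq (h.pair.1.2.2.2 Kk hKle inferInstance))
    obtain ⟨_, -, z, hz, hne⟩ := h.not_act hν
    have h1 := hb (h.z0_le_Z hν hz)
    rw [Subgroup.mem_bot] at h1
    subst h1
    simp at hne
  obtain ⟨δ, μ, hd, hne⟩ := Nat.sInf_mem hex
  rw [h.kernel_eq] at hne
  obtain ⟨w, hw⟩ := h.connected.exists_walk_length_eq_dist δ μ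
  have hwb : w.length = bb := hw.trans hd
  refine ⟨w.getVert, fun i hi => w.adj_getVert_succ (hwb ▸ hi), ?_⟩
  rw [← hwb, SimpleGraph.Walk.getVert_zero, SimpleGraph.Walk.getVert_length]
  exact hne

theorem dist_path {p : ℕ → Cfsg.CosetVertex M₁ M₂} (hp : CP p) {i j : ℕ} (hij : i ≤ j) (hj : j ≤ bb) :
    dst (p i) (p j) ≤ j - i := by
  induction j with
  | zero => simp [Nat.le_zero.mp hij]
  | succ j ih =>
    rcases Nat.eq_or_lt_of_le hij with rfl | hlt
    · simp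
    · have h1 := ih (by omega) (by omega)
      have h2 : dst (p i) (p (j + 1)) ≤ dst (p i) (p j) + dst (p j) (p (j + 1)) := h.connected.dist_triangle
      rw [SimpleGraph.dist_eq_one_iff_adj.mpr (hp.1 j (by omega))] at h2
      omega

theorem one_le_b {p : ℕ → Cfsg.CosetVertex M₁ M₂} (hp : CP p) : 1 ≤ bb := by
  by_contra h0
  have e : bb = 0 := by omega
  exact hp.2 (by rw [e]; exact h.Z_le_Q _)

theorem adj_last {p : ℕ → Cfsg.CosetVertex M₁ M₂} (hp : CP p) : Adj (p (bb - 1)) (p bb) := by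
  have := h.one_le_b hp
  have h2 := hp.1 (bb - 1) (by omega)
  rwa [show bb - 1 + 1 = bb by omega] at h2

theorem Z_end_le_edge {p : ℕ → Cfsg.CosetVertex M₁ M₂} (hp : CP p) :
    ZZ (p bb) ≤ Ed (p 0) (p 1) := by
  have := h.one_le_b hp
  refine le_inf (h.le_St_of_dist ?_) (h.le_St_of_dist ?_) <;> rw [SimpleGraph.dist_comm]
  · simpa using h.dist_path hp (Nat.zero_le bb) le_rfl
  · exact le_trans (h.dist_path hp this le_rfl) (by omega)

theorem Z_start_le_edge {p : ℕ → Cfsg.CosetVertex M₁ M₂} (hp : CP p) :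
    ZZ (p 0) ≤ Ed (p bb) (p (bb - 1)) :=
  le_inf (h.le_St_of_dist (by simpa using h.dist_path hp (Nat.zero_le bb) le_rfl))
    (h.le_St_of_dist (le_trans (h.dist_path hp (Nat.zero_le (bb - 1)) (by omega)) (by omega)))

theorem end_not_le {p : ℕ → Cfsg.CosetVertex M₁ M₂} (hp : CP p) : ¬ ZZ (p bb) ≤ QQ (p 0) :=
  fun hle => hp.2 fun z hz => h.mem_Q_of_commute (h.Z_start_le_edge hp hz).1 fun _ hw =>
    (h.Z_comm_Q (hle hw) hz).symm

theorem reverse {p : ℕ → Cfsg.CosetVertex M₁ M₂} (hp : CP p) : CP (fun i => p (bb - i)) := by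
  refine ⟨fun i hi => ?_, ?_⟩
  · have := (hp.1 (bb - (i + 1)) (by omega)).symm
    rwa [show bb - (i + 1) + 1 = bb - i by omega] at this
  · simpa using h.end_not_le hp

theorem shift_CP {p : ℕ → Cfsg.CosetVertex M₁ M₂} (hp : CP p) {ν : Cfsg.CosetVertex M₁ M₂}
    (hν : Adj (p 0) ν) (hne : ¬ ZZ ν ≤ QQ (p (bb - 1))) : CP (shift ν p) := by
  have hb := h.one_le_b hp
  refine ⟨fun i hi => ?_, ?_⟩
  · cases i with
    | zero => exact hν.symm
    | succ i => exact hp.1 i (by omega)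
  · obtain ⟨k, hk⟩ : ∃ k, bb = k + 1 := ⟨bb - 1, by omega⟩
    rw [hk] at hne ⊢
    exact hne

/-- `E = Q H`. -/
theorem exists_mul_edge {δ μ : Cfsg.CosetVertex M₁ M₂} (hadj : Adj δ μ) {H : Subgroup X}
    (hH : H ≤ Ed δ μ) (hHQ : ¬ H ≤ QQ δ) {e : X} (he : e ∈ Ed δ μ) :
    ∃ q ∈ QQ δ, ∃ x ∈ H, e = q * x := by
  by_cases hq : e ∈ QQ δ
  · exact ⟨e, hq, 1, one_mem _, (mul_one e).symm⟩
  · obtain ⟨x, hx, hxQ⟩ := SetLike.not_le_iff_exists.mp hHQ
    haveI := h.finite_Ed δ μ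
    exact ⟨e * x⁻¹, two_coset (h.Q_le_edge hadj) (h.cards hadj).2 he (inv_mem (hH hx)) hq
      (fun c => hxQ (inv_inv x ▸ inv_mem c)), x, hx, (inv_mul_cancel_right e x).symm⟩

/-- The commutator of `Z(p b)` and the last edge stabiliser lies in `Z(p 0) ∩ Z(p b)`. -/
theorem tmove {p : ℕ → Cfsg.CosetVertex M₁ M₂} (hp : CP p) {t s : X} (ht : t ∈ ZZ (p bb))
    (hs : s ∈ Ed (p bb) (p (bb - 1))) :
    t * s * t⁻¹ * s⁻¹ ∈ ZZ (p 0) ⊓ ZZ (p bb) := by
  obtain ⟨q, hq, z, hz, rfl⟩ :=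
    h.exists_mul_edge (h.adj_last hp).symm (h.Z_start_le_edge hp) hp.2 hs
  have hw : t * z * t⁻¹ * z⁻¹ ∈ ZZ (p 0) ⊓ ZZ (p bb) := by
    constructor
    · exact mul_mem ((Subgroup.mem_normalizer_iff.mp
        (h.St_le_normalizer_Z _ (h.Z_end_le_edge hp ht).1) z).mp hz) ((ZZ (p 0)).inv_mem hz)
    · rw [show t * z * t⁻¹ * z⁻¹ = t * (z * t⁻¹ * z⁻¹) by group]
      exact mul_mem ht ((Subgroup.mem_normalizer_iff.mp
        (h.St_le_normalizer_Z _ (h.Z_start_le_edge hp hz).1) t⁻¹).mp (inv_mem ht))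
  have e1 : t * q = q * t := (h.Z_comm_Q hq ht).symm
  have e2 : q * (t * z * t⁻¹ * z⁻¹) = (t * z * t⁻¹ * z⁻¹) * q := h.Z_comm_Q hq hw.2
  rw [show t * (q * z) * t⁻¹ * (q * z)⁻¹ = (t * q) * z * t⁻¹ * z⁻¹ * q⁻¹ by group, e1,
    show q * t * z * t⁻¹ * z⁻¹ * q⁻¹ = q * (t * z * t⁻¹ * z⁻¹) * q⁻¹ by group, e2, mul_inv_cancel_right]
  exact hw

theorem conj_mem_sup {p : ℕ → Cfsg.CosetVertex M₁ M₂} (hp : CP p) {t : X} (ht : t ∈ ZZ (p bb))
    {H : Subgroup X} (hH : H ≤ Ed (p bb) (p (bb - 1))) {s : X} (hs : s ∈ H) :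
    t * s * t⁻¹ ∈ H ⊔ ZZ (p 0) := by
  have := h.tmove hp ht (hH hs)
  rw [show t * s * t⁻¹ = (t * s * t⁻¹ * s⁻¹) * s by group]
  exact mul_mem (le_sup_right (a := H) this.1) (le_sup_left (b := ZZ (p 0)) hs)

theorem mem_normalizer_of_conj {V : Subgroup X} [Finite V] {g : X}
    (hg : ∀ x ∈ V, g * x * g⁻¹ ∈ V) : g ∈ Subgroup.normalizer (V : Set X) :=
  Subgroup.mem_normalizer_fintype hg

theorem conj_sup {g : X} {A B V : Subgroup X} (hA : ∀ x ∈ A, g * x * g⁻¹ ∈ V)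
    (hB : ∀ x ∈ B, g * x * g⁻¹ ∈ V) : ∀ x ∈ A ⊔ B, g * x * g⁻¹ ∈ V := fun _ hx =>
  (show A ⊔ B ≤ V.comap (MulAut.conj g).toMonoidHom from sup_le hA hB) hx

theorem exists_t {p : ℕ → Cfsg.CosetVertex M₁ M₂} (hp : CP p) :
    ∃ t ∈ ZZ (p bb), t ∈ Ed (p 0) (p 1) ∧ t ∉ QQ (p 0) := by
  obtain ⟨t, ht, htQ⟩ := SetLike.not_le_iff_exists.mp (h.end_not_le hp)
  exact ⟨t, ht, h.Z_end_le_edge hp ht, htQ⟩

theorem not_mem_edge {δ μ ν : Cfsg.CosetVertex M₁ M₂} (hμ : Adj δ μ) (hν : Adj δ ν) (hne : ν ≠ μ)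
    {g : X} (hg : g ∈ Ed δ μ) (hgQ : g ∉ QQ δ) : g ∉ Ed δ ν := fun hgν =>
  hgQ (h.inf_edges hμ hν hne.symm ▸ ⟨hg, hgν⟩)

theorem smul_Z_iff {g : X} {δ : Cfsg.CosetVertex M₁ M₂} {x : X} :
    x ∈ ZZ (g • δ) ↔ g⁻¹ * x * g ∈ ZZ δ := by
  constructor
  · intro hx
    have := h.smul_Z (g := g⁻¹) hx
    rwa [inv_smul_smul, inv_inv] at this
  · intro hx
    have := h.smul_Z (g := g) hx
    simpa [mul_assoc] using this

theorem good_of_le {p : ℕ → Cfsg.CosetVertex M₁ M₂} (hp : CP p) (hb : 2 ≤ bb)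
    {ν : Cfsg.CosetVertex M₁ M₂} (hν : Adj (p 0) ν) (hne : ν ≠ p 1)
    (hle : ZZ ν ≤ QQ (p (bb - 1))) : Good (p 0) := by
  obtain ⟨t, ht, htE, htQ⟩ := h.exists_t hp
  have hνE : ZZ ν ≤ Ed (p bb) (p (bb - 1)) := hle.trans (h.Q_le_edge' (h.adj_last hp).symm)
  set W := ZZ ν ⊔ ZZ (p 0) with hW
  haveI : Finite W := h.finite_le (sup_le
    (h.le_St_of_dist (by rw [SimpleGraph.dist_eq_one_iff_adj.mpr hν.symm]; omega))
    ((h.Z_le_Q _).trans (Subgroup.map_subtype_le _)))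
  have htW : t ∈ Subgroup.normalizer (W : Set X) := h.mem_normalizer_of_conj (h.conj_sup
    (fun x hx => h.conj_mem_sup hp ht hνE hx)
    (fun x hx => le_sup_right (a := ZZ ν)
      ((Subgroup.mem_normalizer_iff.mp (h.St_le_normalizer_Z _ htE.1) x).mp hx)))
  have hEW : Ed (p 0) ν ≤ Subgroup.normalizer (W : Set X) := fun g hg =>
    h.mem_normalizer_of_conj (h.conj_sup
      (fun x hx => le_sup_left (b := ZZ (p 0))
        ((Subgroup.mem_normalizer_iff.mp (h.St_le_normalizer_Z _ hg.2) x).mp hx))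
      (fun x hx => le_sup_right (a := ZZ ν)
        ((Subgroup.mem_normalizer_iff.mp (h.St_le_normalizer_Z _ hg.1) x).mp hx)))
  have hN : St (p 0) ≤ Subgroup.normalizer (W : Set X) := h.le_normalizer_of_mem hν htE.1
    (h.not_mem_edge (hp.1 0 (by omega)) hν hne htE htQ) hEW htW
  intro ν₁ ν₂ h1 h2 x hx
  obtain ⟨g, hg, rfl⟩ := Cfsg.Agent.S2744.result M₁ M₂ (p 0) ν ν₁ hν h1
  obtain ⟨k, hk, rfl⟩ := Cfsg.Agent.S2744.result M₁ M₂ (p 0) ν ν₂ hν h2
  have hxW : x ∈ W := by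
    have := (Subgroup.mem_normalizer_iff.mp (hN hk) _).mp
      (le_sup_left (b := ZZ (p 0)) (h.smul_Z_iff.mp hx))
    simpa [mul_assoc] using this
  have hgW : g⁻¹ * x * g ∈ W := by
    simpa using (Subgroup.mem_normalizer_iff.mp (hN (inv_mem hg)) x).mp hxW
  have := h.conj_sup (g := g) (A := ZZ ν) (B := ZZ (p 0)) (V := ZZ (g • ν) ⊔ ZZ (p 0))
    (fun y hy => le_sup_left (b := ZZ (p 0)) (h.smul_Z hy))
    (fun y hy => le_sup_right (a := ZZ (g • ν))
      ((Subgroup.mem_normalizer_iff.mp (h.St_le_normalizer_Z _ hg) y).mp hy)) _ hgW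
  simpa [mul_assoc] using this

theorem good_smul {δ : Cfsg.CosetVertex M₁ M₂} (g : X) (hgood : Good δ) : Good (g • δ) := by
  intro ν ν' hν hν' x hx
  have a1 := Cfsg.Agent.S2745.adj_smul g⁻¹ hν
  have a2 := Cfsg.Agent.S2745.adj_smul g⁻¹ hν'
  rw [inv_smul_smul] at a1 a2
  have hmem := hgood _ _ a1 a2 (h.smul_Z (g := g⁻¹) hx)
  have := h.conj_sup (g := g) (A := ZZ (g⁻¹ • ν)) (B := ZZ δ) (V := ZZ ν ⊔ ZZ (g • δ))
    (fun y hy => le_sup_left (b := ZZ (g • δ)) (by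
      have := h.smul_Z (g := g) hy
      rwa [smul_inv_smul] at this))
    (fun y hy => le_sup_right (a := ZZ ν) (h.smul_Z hy)) _ hmem
  simpa [mul_assoc] using this

theorem good_of_sameSide {δ μ : Cfsg.CosetVertex M₁ M₂} (hs : SameSide δ μ) (hgood : Good δ) :
    Good μ := by
  obtain ⟨g, rfl⟩ := exists_smul_of_sameSide hs
  exact h.good_smul g hgood

theorem inf_Q_le {δ ν ν' : Cfsg.CosetVertex M₁ M₂} (hgood : Good δ) (hν : Adj δ ν) (hν' : Adj δ ν') :
    QQ δ ⊓ QQ ν ≤ QQ ν' := by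
  rintro g ⟨hg1, hg2⟩
  refine h.mem_Q_of_commute (h.Q_le_edge hν' hg1).2 fun z hz => ?_
  have hle : ZZ ν ⊔ ZZ δ ≤ Subgroup.centralizer {g} := sup_le
    (fun w hw => Subgroup.mem_centralizer_singleton_iff.mpr (h.Z_comm_Q hg2 hw).symm)
    (fun w hw => Subgroup.mem_centralizer_singleton_iff.mpr (h.Z_comm_Q hg1 hw).symm)
  exact (Subgroup.mem_centralizer_singleton_iff.mp (hle (hgood ν ν' hν hν' hz))).symm

theorem not_good_second {p : ℕ → Cfsg.CosetVertex M₁ M₂} (hp : CP p) (hb : 2 ≤ bb) :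
    ¬ Good (p 1) := by
  intro hgood
  refine hp.2 fun z hz => h.mem_Q_of_commute (h.Z_start_le_edge hp hz).1 fun w hw => ?_
  have hle : ZZ (p 2) ⊔ ZZ (p 1) ≤ Subgroup.centralizer {w} := sup_le
    (fun x hx => Subgroup.mem_centralizer_singleton_iff.mpr (h.comm_of_dist
      (lt_of_le_of_lt (h.dist_path hp hb le_rfl) (by omega)) hx hw))
    (fun x hx => Subgroup.mem_centralizer_singleton_iff.mpr (h.comm_of_dist
      (lt_of_le_of_lt (h.dist_path hp (by omega : 1 ≤ bb) le_rfl) (by omega)) hx hw))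
  exact Subgroup.mem_centralizer_singleton_iff.mp
    (hle (hgood (p 2) (p 0) (hp.1 1 (by omega)) (hp.1 0 (by omega)).symm hz))

/-- For a critical path starting `ω, ν, a`: the nontrivial commutators. -/
theorem exists_commutator {q : ℕ → Cfsg.CosetVertex M₁ M₂} (hq : CP q) :
    ∃ z ∈ ZZ (q bb), ∃ w ∈ ZZ (q 0), z * w * z⁻¹ * w⁻¹ ≠ 1 := by
  by_contra! hall
  exact hq.2 fun w hw => h.mem_Q_of_commute (h.Z_start_le_edge hq hw).1 fun z hz =>
    (mul_inv_eq_iff_eq_mul.mp (mul_inv_eq_one.mp (hall z hz w hw))).symm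

theorem commutator_central {q : ℕ → Cfsg.CosetVertex M₁ M₂} (hq : CP q) {z e : X} (hz : z ∈ ZZ (q bb))
    (he : e ∈ Ed (q bb) (q (bb - 1))) :
    z * e * z⁻¹ * e⁻¹ ∈ Ed (q 0) (q 1) ∧
      ∀ g ∈ Ed (q 0) (q 1), g * (z * e * z⁻¹ * e⁻¹) = (z * e * z⁻¹ * e⁻¹) * g := by
  set r := z * e * z⁻¹ * e⁻¹ with hr
  have hb := h.one_le_b hq
  obtain ⟨hr0, hrb⟩ := h.tmove hq hz he
  refine ⟨h.Q_le_edge (hq.1 0 (by omega)) (h.Z_le_Q _ hr0), fun g hg => ?_⟩
  obtain ⟨q', hq', x, hx, rfl⟩ :=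
    h.exists_mul_edge (hq.1 0 (by omega)) (h.Z_end_le_edge hq) (h.end_not_le hq) hg
  have e2 : x * r = r * x := h.Z_comm_Q (h.Z_le_Q _ hx) hrb
  rw [mul_assoc, e2, ← mul_assoc, h.Z_comm_Q hq' hr0, mul_assoc]

theorem false_of_three_le (hb : 3 ≤ bb) : False := by
  obtain ⟨p₀, hp₀⟩ := h.exists_CP
  by_cases hex : ∃ p : ℕ → Cfsg.CosetVertex M₁ M₂, CP p ∧ Good (p 0)
  · -- every critical path starts at a good vertex
    obtain ⟨p, hp, hgood⟩ := hex
    have h1bad : ¬ Good (p 1) := h.not_good_second hp (by omega)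
    have hstart : ∀ q : ℕ → Cfsg.CosetVertex M₁ M₂, CP q → Good (q 0) := by
      intro q hq
      refine h.good_of_sameSide ?_ hgood
      have a := isLeft_ne_of_adj (hp.1 0 (by omega))
      have a' := isLeft_ne_of_adj (hq.1 0 (by omega))
      have hne : ¬ SameSide (p 0) (q 1) := fun e =>
        h.not_good_second hq (by omega) (h.good_of_sameSide e hgood)
      unfold SameSide at hne ⊢
      revert a a' hne
      cases (p 0).isLeft <;> cases (p 1).isLeft <;> cases (q 0).isLeft <;> cases (q 1).isLeft <;> simp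
    obtain ⟨t, ht, htE, htQ⟩ := h.exists_t hp
    obtain ⟨ν, hν, hνne⟩ := h.exists_other (hp.1 0 (by omega))
    have hνbad : ¬ Good ν := fun hg => h1bad (h.good_of_sameSide
      (sameSide_of_two_steps hν.symm (hp.1 0 (by omega))) hg)
    have hnc : ∀ q : ℕ → Cfsg.CosetVertex M₁ M₂, CP q → q 0 ≠ ν := fun q hq e => hνbad (e ▸ hstart q hq)
    have hgood2 : Good (p (bb - 2)) := by
      have e := hstart _ (h.reverse hp)
      simp only [tsub_zero] at e
      refine h.good_of_sameSide ?_ e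
      have a1 := hp.1 (bb - 2) (by omega)
      rw [show bb - 2 + 1 = bb - 1 by omega] at a1
      exact sameSide_of_two_steps (h.adj_last hp).symm a1.symm
    have htν : t ∉ Ed (p 0) ν := h.not_mem_edge (hp.1 0 (by omega)) hν hνne htE htQ
    have key : ∀ ω, Adj ν ω → ω ≠ p 0 → ZZ ω ≤ QQ (p (bb - 2)) →
        ∀ x ∈ ZZ ω, t * x * t⁻¹ ∈ ZZ ω ⊔ ZZ (p 0) := by
      intro ω hω _ hle x hx
      have d1 : dst ω (p (bb - 3)) < bb := by
        have t1 : dst ω (p (bb - 3)) ≤ dst ω ν + dst ν (p (bb - 3)) := h.connected.dist_triangle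
        have t2 : dst ν (p (bb - 3)) ≤ dst ν (p 0) + dst (p 0) (p (bb - 3)) := h.connected.dist_triangle
        rw [SimpleGraph.dist_eq_one_iff_adj.mpr hω.symm] at t1
        rw [SimpleGraph.dist_eq_one_iff_adj.mpr hν.symm] at t2
        have := h.dist_path hp (Nat.zero_le (bb - 3)) (by omega)
        omega
      have a23 : Adj (p (bb - 2)) (p (bb - 3)) := by
        have := hp.1 (bb - 3) (by omega)
        rw [show bb - 3 + 1 = bb - 2 by omega] at this
        exact this.symm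
      have a21 : Adj (p (bb - 2)) (p (bb - 1)) := by
        have := hp.1 (bb - 2) (by omega)
        rwa [show bb - 2 + 1 = bb - 1 by omega] at this
      have hxQ : x ∈ QQ (p (bb - 1)) := by
        refine h.mem_Q_of_commute (h.Q_le_edge a21 (hle hx)).2 fun z hz => ?_
        have hcen : ZZ (p (bb - 3)) ⊔ ZZ (p (bb - 2)) ≤ Subgroup.centralizer {x} := sup_le
          (fun w hw => Subgroup.mem_centralizer_singleton_iff.mpr (h.comm_of_dist d1 hx hw).symm)
          (fun w hw => Subgroup.mem_centralizer_singleton_iff.mpr (h.Z_comm_Q (hle hx) hw).symm)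
        exact (Subgroup.mem_centralizer_singleton_iff.mp (hcen (hgood2 _ _ a23 a21 hz))).symm
      have hxE : x ∈ Ed (p bb) (p (bb - 1)) := h.Q_le_edge' (h.adj_last hp).symm hxQ
      have := h.tmove hp ht hxE
      rw [show t * x * t⁻¹ = (t * x * t⁻¹ * x⁻¹) * x by group]
      exact mul_mem (le_sup_right (a := ZZ ω) this.1) (le_sup_left (b := ZZ (p 0)) hx)
    -- the two other neighbours of `ν`
    by_cases hω : ∃ ω, Adj ν ω ∧ ω ≠ p 0 ∧ ZZ ω ≤ QQ (p (bb - 2))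
    · obtain ⟨ω, hω1, hω2, hω3⟩ := hω
      obtain ⟨q, hq, hqν⟩ := SetLike.not_le_iff_exists.mp (h.Q_not_le hν)
      have hqE : q ∈ Ed ν (p 0) := h.Q_le_edge' hν.symm hq
      obtain ⟨m1, m2, m3⟩ := h.moves hν.symm hω1 hω2 hqE hqν
      set V := ZZ (p 0) ⊔ (ZZ ω ⊔ ZZ (q • ω)) with hV
      have hdist : ∀ ω', Adj ν ω' → dst ω' (p 0) ≤ bb := by
        intro ω' hω'
        have t1 : dst ω' (p 0) ≤ dst ω' ν + dst ν (p 0) := h.connected.dist_triangle
        rw [SimpleGraph.dist_eq_one_iff_adj.mpr hω'.symm, SimpleGraph.dist_eq_one_iff_adj.mpr hν.symm] at t1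
        omega
      have hVE : V ≤ Ed (p 0) ν := by
        refine sup_le ((h.Z_le_Q _).trans (h.Q_le_edge hν)) (sup_le ?_ ?_)
        · exact le_inf (h.le_St_of_dist (hdist ω hω1))
            (h.le_St_of_dist (by rw [SimpleGraph.dist_eq_one_iff_adj.mpr hω1.symm]; omega))
        · exact le_inf (h.le_St_of_dist (hdist _ m3))
            (h.le_St_of_dist (by rw [SimpleGraph.dist_eq_one_iff_adj.mpr m3.symm]; omega))
      haveI : Finite V := h.finite_le (hVE.trans inf_le_left)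
      have hgen : ∀ ω', Adj ν ω' → ZZ ω' ≤ V := by
        intro ω' hω'
        rcases h.triple hν.symm hω1 m3 hω2 m2 (Ne.symm m1) hω' with rfl | rfl | rfl
        · exact le_sup_left
        · exact le_sup_of_le_right le_sup_left
        · exact le_sup_of_le_right le_sup_right
      have hνN : St ν ≤ Subgroup.normalizer (V : Set X) := by
        intro g hg
        have hmove : ∀ ω', Adj ν ω' → ∀ x ∈ ZZ ω', g * x * g⁻¹ ∈ V := fun ω' hω' x hx => by
          have a := Cfsg.Agent.S2745.adj_smul g hω'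
          rw [MulAction.mem_stabilizer_iff.mp hg] at a
          exact hgen _ a (h.smul_Z hx)
        exact h.mem_normalizer_of_conj (h.conj_sup (hmove _ hν.symm)
          (h.conj_sup (hmove _ hω1) (hmove _ m3)))
      have hta : t • p 0 = p 0 := MulAction.mem_stabilizer_iff.mp htE.1
      have hω1' : Adj (t • ν) (t • ω) := Cfsg.Agent.S2745.adj_smul t hω1
      have hν' : Adj (p 0) (t • ν) := by
        have := Cfsg.Agent.S2745.adj_smul t hν
        rwa [hta] at this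
      have h1 : ∀ x ∈ ZZ ω, t * x * t⁻¹ ∈ V := fun x hx =>
        (sup_le (le_sup_of_le_right le_sup_left) le_sup_left : ZZ ω ⊔ ZZ (p 0) ≤ V)
          (key ω hω1 hω2 hω3 x hx)
      have hqν' : q ∉ QQ (t • ν) := fun hc => hqν (h.inf_Q_le hgood hν' hν ⟨hq, hc⟩)
      have hqE' : q ∈ Ed (t • ν) (p 0) := h.Q_le_edge' hν'.symm hq
      have hne' : t • ω ≠ p 0 := fun e => hω2 (smul_left_cancel t (e.trans hta.symm))
      obtain ⟨n1, n2, n3⟩ := h.moves hν'.symm hω1' hne' hqE' hqν'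
      have eq1 : q • t • ω = t • q • ω := by
        have a3 := Cfsg.Agent.S2745.adj_smul t m3
        rcases h.triple hν'.symm hω1' n3 hne' n2 (Ne.symm n1) a3 with e | e | e
        · exact absurd (smul_left_cancel t (e.trans hta.symm)) m2
        · exact absurd (smul_left_cancel t e) m1
        · exact e.symm
      have h2 : ∀ x ∈ ZZ (q • ω), t * x * t⁻¹ ∈ V := by
        intro x hx
        have h3 : t * x * t⁻¹ ∈ ZZ (q • t • ω) := eq1 ▸ h.smul_Z hx
        have h4 := h.smul_Z_iff.mp (h.smul_Z_iff.mp h3)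
        have h5 := key ω hω1 hω2 hω3 _ h4
        rw [show t * (t⁻¹ * (q⁻¹ * (t * x * t⁻¹) * q) * t) * t⁻¹ = q⁻¹ * (t * x * t⁻¹) * q by group] at h5
        have h6 := h.conj_sup (g := q) (A := ZZ ω) (B := ZZ (p 0)) (V := V)
          (fun y hy => (le_sup_of_le_right le_sup_right : ZZ (q • ω) ≤ V) (h.smul_Z hy))
          (fun y hy => le_sup_left (b := ZZ ω ⊔ ZZ (q • ω))
            ((Subgroup.mem_normalizer_iff.mp (h.St_le_normalizer_Z _
              (h.Q_le_edge hν hq).1) y).mp hy)) _ h5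
        simpa [mul_assoc] using h6
      have htN : t ∈ Subgroup.normalizer (V : Set X) := h.mem_normalizer_of_conj (h.conj_sup
        (fun x hx => le_sup_left (b := ZZ ω ⊔ ZZ (q • ω))
          ((Subgroup.mem_normalizer_iff.mp (h.St_le_normalizer_Z _ htE.1) x).mp hx))
        (h.conj_sup h1 h2))
      have haN : St (p 0) ≤ Subgroup.normalizer (V : Set X) :=
        h.le_normalizer_of_mem hν htE.1 htν (fun g hg => hνN hg.2) htN
      have hbot := h.eq_bot_of_normalized hν hVE haN hνN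
      obtain ⟨_, -, z, hz, hne⟩ := h.not_act hν
      have hz1 : z ∈ (⊥ : Subgroup X) := hbot ▸ le_sup_left (b := ZZ ω ⊔ ZZ (q • ω)) (h.z0_le_Z hν hz)
      rw [Subgroup.mem_bot] at hz1
      subst hz1
      simp at hne
    · push Not at hω
      obtain ⟨ω, hω1, hω2⟩ := h.exists_other hν.symm
      obtain ⟨g, hg, hgQ⟩ := h.exists_mem_edge hν.symm
      obtain ⟨m1, m2, m3⟩ := h.moves hν.symm hω1 hω2 hg hgQ
      have hνsh : ∀ ω', Adj ν ω' → ω' ≠ p 0 → CP (shift ω' (shift ν p)) := by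
        intro ω' hω' hne'
        refine ⟨fun i hi => ?_, ?_⟩
        · rcases i with _ | _ | i
          · exact hω'.symm
          · exact hν.symm
          · exact hp.1 i (by omega)
        · obtain ⟨k, hk⟩ : ∃ k, bb = k + 2 := ⟨bb - 2, by omega⟩
          have := hω ω' hω' hne'
          rw [hk] at this ⊢
          exact this
      obtain ⟨k, hk⟩ : ∃ k, bb = k + 3 := ⟨bb - 3, by omega⟩
      obtain ⟨z, hz, w, hw, hr1⟩ := h.exists_commutator (hνsh ω hω1 hω2)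
      have hwE : w ∈ Ed (p (k + 1)) (p k) := by
        have := h.Z_start_le_edge (hνsh ω hω1 hω2) hw
        rw [hk] at this
        exact this
      rw [hk] at hz
      have hz' : z ∈ ZZ (p (k + 1)) := hz
      have hc : ∀ ω', Adj ν ω' → ω' ≠ p 0 →
          z * w * z⁻¹ * w⁻¹ ∈ Ed ω' ν ∧ ∀ g ∈ Ed ω' ν, g * (z * w * z⁻¹ * w⁻¹) = z * w * z⁻¹ * w⁻¹ * g := by
        intro ω' h' h''
        exact h.commutator_central (hνsh ω' h' h'') (by rw [hk]; exact hz') (by rw [hk]; exact hwE)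
      set r := z * w * z⁻¹ * w⁻¹ with hr
      obtain ⟨hrE, hrc⟩ := hc ω hω1 hω2
      obtain ⟨-, hrc'⟩ := hc _ m3 m2
      have hrν : ∀ g ∈ St ν, g * r = r * g := by
        intro g' hg'
        have hle : St ν ≤ Subgroup.centralizer {r} := by
          rw [← h.sup_edges hω1 m3 (Ne.symm m1)]
          refine sup_le (fun e he => ?_) (fun e he => ?_) <;> rw [Subgroup.mem_centralizer_singleton_iff]
          · exact hrc e ⟨he.2, he.1⟩
          · exact hrc' e ⟨he.2, he.1⟩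
        exact Subgroup.mem_centralizer_singleton_iff.mp (hle hg')
      have htr : t * r = r * t := by
        have hrZ : r ∈ ZZ (p (k + 1)) := by
          have := (h.tmove (hνsh ω hω1 hω2) (t := z) (by rw [hk]; exact hz')
            (s := w) (by rw [hk]; exact hwE)).2
          rw [hk] at this
          exact this
        exact (h.comm_of_dist (lt_of_le_of_lt (h.dist_path hp (by omega : k + 1 ≤ bb) le_rfl) (by omega))
          hrZ ht).symm
      have hra : ∀ g ∈ St (p 0), g * r = r * g := by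
        refine h.central_of_commute hν (fun e he => hrν e he.2) htE.1 htν htr
      refine hr1 (h.eq_one_of_centralized hν (x := r) ⟨?_, hrE.2⟩ hra hrν)
      have hb2 : dst ω (p 0) ≤ bb := by
        have t1 : dst ω (p 0) ≤ dst ω ν + dst ν (p 0) := h.connected.dist_triangle
        rw [SimpleGraph.dist_eq_one_iff_adj.mpr hω1.symm, SimpleGraph.dist_eq_one_iff_adj.mpr hν.symm] at t1
        omega
      exact h.le_St_of_dist hb2 (h.tmove (hνsh ω hω1 hω2) (t := z) (by rw [hk]; exact hz')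
        (s := w) (by rw [hk]; exact hwE)).1
  · -- no critical path starts at a good vertex: every shift is critical
    push Not at hex
    have hshift : ∀ p : ℕ → Cfsg.CosetVertex M₁ M₂, CP p → ∀ ν, Adj (p 0) ν → ν ≠ p 1 →
        CP (shift ν p) := fun p hp ν hν hne =>
      h.shift_CP hp hν fun hle => hex p hp (h.good_of_le hp (by omega) hν hne hle)
    obtain ⟨k, hk⟩ : ∃ k, bb = k + 3 := ⟨bb - 3, by omega⟩
    have ha := hp₀.1 0 (by omega)
    obtain ⟨ν, hν, hνne⟩ := h.exists_other ha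
    obtain ⟨g, hg, hgQ⟩ := h.exists_mem_edge ha
    obtain ⟨m1, m2, m3⟩ := h.moves ha hν hνne hg hgQ
    have hdata : ∀ μ, Adj (p₀ 0) μ → μ ≠ p₀ 1 → ∃ ω, CP (shift ω (shift μ p₀)) := by
      intro μ hμ hne
      obtain ⟨ω, hω1, hω2⟩ := h.exists_other hμ.symm
      exact ⟨ω, hshift _ (hshift p₀ hp₀ μ hμ hne) ω hω1 hω2⟩
    obtain ⟨ω, hωP⟩ := hdata ν hν hνne
    obtain ⟨z, hz, w, hw, hr1⟩ := h.exists_commutator hωP
    have hwE : w ∈ Ed (p₀ (k + 1)) (p₀ k) := by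
      have := h.Z_start_le_edge hωP hw
      rw [hk] at this
      exact this
    rw [hk] at hz
    have hz' : z ∈ ZZ (p₀ (k + 1)) := hz
    set r := z * w * z⁻¹ * w⁻¹ with hr
    have hcent : ∀ μ, Adj (p₀ 0) μ → μ ≠ p₀ 1 → r ∈ St μ ∧ ∀ g ∈ St μ, g * r = r * g := by
      intro μ hμ hne
      obtain ⟨ω', hωP'⟩ := hdata μ hμ hne
      obtain ⟨hrE, hrc⟩ := h.commutator_central hωP' (z := z) (e := w) (by rw [hk]; exact hz')
        (by rw [hk]; exact hwE)
      have hrZ : r ∈ ZZ (p₀ (k + 1)) := by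
        have := (h.tmove hωP' (t := z) (by rw [hk]; exact hz') (s := w) (by rw [hk]; exact hwE)).2
        rw [hk] at this
        exact this
      have hμ1 : CP (shift μ p₀) := hshift p₀ hp₀ μ hμ hne
      obtain ⟨u, hu, huE, huQ⟩ := h.exists_t hμ1
      rw [hk] at hu
      have hu' : u ∈ ZZ (p₀ (k + 2)) := hu
      have hur : u * r = r * u := (h.comm_of_dist (lt_of_le_of_lt
        (h.dist_path hp₀ (by omega : k + 1 ≤ k + 2) (by omega)) (by omega)) hrZ hu').symm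
      have hωne : ω' ≠ p₀ 0 := by
        intro e
        have a := hωP'.1 0 (by omega)
        apply hωP'.2
        rw [hk]
        show ZZ ω' ≤ QQ (p₀ (k + 1))
        rw [e]
        exact h.le_Q_of_dist (lt_of_le_of_lt (h.dist_path hp₀ (Nat.zero_le _) (by omega)) (by omega))
      have hadj : Adj μ ω' := (hωP'.1 0 (by omega)).symm
      exact ⟨hrE.2, h.central_of_commute hadj (x := r) (fun e he => hrc e ⟨he.2, he.1⟩) huE.1
        (h.not_mem_edge hμ.symm hadj hωne huE huQ) hur⟩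
    obtain ⟨hr1', hc1⟩ := hcent ν hν hνne
    obtain ⟨-, hc2⟩ := hcent _ m3 m2
    have hra : ∀ g ∈ St (p₀ 0), g * r = r * g := by
      intro g' hg'
      have hle : St (p₀ 0) ≤ Subgroup.centralizer {r} := by
        rw [← h.sup_edges hν m3 (Ne.symm m1)]
        refine sup_le (fun e he => ?_) (fun e he => ?_) <;> rw [Subgroup.mem_centralizer_singleton_iff]
        · exact hc1 e he.2
        · exact hc2 e he.2
      exact Subgroup.mem_centralizer_singleton_iff.mp (hle hg')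
    refine hr1 (h.eq_one_of_centralized hν (x := r) ⟨?_, hr1'⟩ hra hc1)
    have hb2 : dst ω (p₀ 0) ≤ bb := by
      have t1 : dst ω (p₀ 0) ≤ dst ω ν + dst ν (p₀ 0) := h.connected.dist_triangle
      have a : Adj ω ν := hωP.1 0 (by omega)
      rw [SimpleGraph.dist_eq_one_iff_adj.mpr a, SimpleGraph.dist_eq_one_iff_adj.mpr hν.symm] at t1
      omega
    exact h.le_St_of_dist hb2 (h.tmove hωP (t := z) (by rw [hk]; exact hz') (s := w) (by rw [hk]; exact hwE)).1

end Hyp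

end CfsgLib.Amalgam.Cubic
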