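import Cfsg.Agent.Lib.Amalgam.CubicTwoPath
import Cfsg.Agent.Lib.Offender.Involves

/-!
Trivalent amalgams with active centres: the critical distance is one, and the vertex groups are
`S₄` or `Z₂ × S₄`.
-/

set_option autoImplicit false
set_option linter.style.haveILetI false
set_option linter.unusedSectionVars false

open Cfsg
open scoped Pointwise

namespace CfsgLib.Amalgam.Cubic

section Abstract

variable {K : Type*} [Group K] [Finite K]

/-- A group `K` with a self-centralising elementary abelian normal subgroup `A` of index `6`,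
`|A : A ∩ Z(K)| = 4`, elements of order `3` fixing only the central part and an involution outside `A`. -/
theorem structure_of_six (A : Subgroup K) [A.Normal] (hA2 : ∀ x ∈ A, x * x = 1)
    (hcent : Subgroup.centralizer (A : Set K) ≤ A) (hcard : Nat.card K = 6 * Nat.card A)
    (hAC : Nat.card A = 4 * Nat.card ↥(A ⊓ Subgroup.center K))
    (hfix : ∀ d : K, orderOf d = 3 → ∀ x ∈ A, d * x = x * d → x ∈ Subgroup.center K)
    (hb : ∃ b : K, b ∉ A ∧ b * b = 1) :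
    (Nat.card ↥(A ⊓ Subgroup.center K) = 1 → Nonempty (K ≃* Equiv.Perm (Fin 4))) ∧
      (Nat.card ↥(A ⊓ Subgroup.center K) = 2 →
        Nonempty (K ≃* Multiplicative (ZMod 2) × Equiv.Perm (Fin 4))) := by
  haveI : Fact (Nat.Prime 3) := ⟨Nat.prime_three⟩
  set C := A ⊓ Subgroup.center K with hC
  have hcpos : 0 < Nat.card C := Nat.card_pos
  have habel : ∀ x ∈ A, ∀ y ∈ A, x * y = y * x := fun x hx y hy => by
    have := hA2 _ (mul_mem hx hy)
    rw [mul_eq_one_iff_eq_inv, mul_inv_rev, inv_eq_of_mul_eq_one_right (hA2 x hx),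
      inv_eq_of_mul_eq_one_right (hA2 y hy)] at this
    exact this
  have hCc : ∀ c ∈ C, ∀ g : K, g * c = c * g := fun c hc g => Subgroup.mem_center_iff.mp hc.2 g
  obtain ⟨d, hd⟩ := exists_prime_orderOf_dvd_card' (G := K) 3
    (hcard ▸ Dvd.dvd.mul_right (by norm_num) _)
  have hd3 : d ^ 3 = 1 := hd ▸ pow_orderOf_eq_one d
  have hd1 : d ≠ 1 := fun e => by rw [e, orderOf_one] at hd; omega
  have hz3 : ∀ u ∈ Subgroup.zpowers d, u = 1 ∨ u = d ∨ u = d⁻¹ := by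
    intro u hu
    obtain ⟨i, rfl⟩ := Subgroup.mem_zpowers_iff.mp hu
    have e : d ^ i = d ^ (i % 3) := by
      rw [← zpow_mod_orderOf d i, hd]; norm_num
    rw [e]
    obtain h | h | h : i % 3 = 0 ∨ i % 3 = 1 ∨ i % 3 = 2 := by omega
    · left; rw [h, zpow_zero]
    · right; left; rw [h, zpow_one]
    · right; right
      rw [h, eq_inv_iff_mul_eq_one]
      rw [← zpow_add_one, show (2 : ℤ) + 1 = ((3 : ℕ) : ℤ) by norm_num, zpow_natCast, hd3]
  have hdA : ∀ u ∈ Subgroup.zpowers d, u ∈ A → u = 1 := by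
    intro u hu huA
    have h2 := hA2 u huA
    rcases hz3 u hu with rfl | rfl | rfl
    · rfl
    · exfalso; apply hd1
      rw [pow_succ, pow_two, h2, one_mul] at hd3; exact hd3
    · exfalso; apply hd1
      rw [← mul_inv_rev, inv_eq_one] at h2
      rw [pow_succ, pow_two, h2, one_mul] at hd3; exact hd3
  -- `N = [A, d]`
  let φ : A →* K :=
    { toFun := fun x => d * (x : K) * d⁻¹ * (x : K)⁻¹
      map_one' := by simp
      map_mul' := fun x y => by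
        have hA' : d * (y : K) * d⁻¹ ∈ A := (inferInstance : A.Normal).conj_mem _ y.2 d
        have e := habel _ (mul_mem hA' (inv_mem y.2)) _ (inv_mem x.2)
        push_cast
        calc d * ((x : K) * (y : K)) * d⁻¹ * ((x : K) * (y : K))⁻¹
            = (d * (x : K) * d⁻¹) * ((d * (y : K) * d⁻¹ * (y : K)⁻¹) * (x : K)⁻¹) := by group
          _ = (d * (x : K) * d⁻¹) * ((x : K)⁻¹ * (d * (y : K) * d⁻¹ * (y : K)⁻¹)) := by rw [e]
          _ = _ := by group }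
  set N := φ.range with hN
  have hNA : N ≤ A := by
    rintro _ ⟨x, rfl⟩
    exact mul_mem ((inferInstance : A.Normal).conj_mem _ x.2 d) (inv_mem x.2)
  have hker : φ.ker = C.subgroupOf A := by
    ext x
    rw [MonoidHom.mem_ker, Subgroup.mem_subgroupOf]
    constructor
    · intro e
      exact ⟨x.2, hfix d hd x x.2 (mul_inv_eq_iff_eq_mul.mp (mul_inv_eq_one.mp e))⟩
    · intro hx
      show d * (x : K) * d⁻¹ * (x : K)⁻¹ = 1
      rw [hCc _ hx d]; group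
  have hcardN : Nat.card N = 4 := by
    have h1 := Subgroup.card_eq_card_quotient_mul_card_subgroup φ.ker
    rw [Nat.card_congr (QuotientGroup.quotientKerEquivRange φ).toEquiv, hker,
      Nat.card_congr (Subgroup.subgroupOfEquivOfLe (inf_le_left : C ≤ A)).toEquiv, hAC] at h1
    exact (Nat.eq_of_mul_eq_mul_right hcpos h1).symm
  have hNC : ∀ y ∈ N, y ∈ C → y = 1 := by
    rintro _ ⟨x, rfl⟩ hy
    set y := φ x with hy'
    have e : d * (x : K) * d⁻¹ = y * (x : K) := by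
      rw [hy']; show _ = d * (x : K) * d⁻¹ * (x : K)⁻¹ * (x : K); group
    have e2 : d * (d * (x : K) * d⁻¹) * d⁻¹ = (x : K) := by
      rw [e, show d * (y * (x : K)) * d⁻¹ = (d * y * d⁻¹) * (d * (x : K) * d⁻¹) by group, e,
        hCc y hy d, mul_inv_cancel_right, ← mul_assoc, hA2 y hy.1, one_mul]
    have e3 : d * (x : K) * d⁻¹ = (x : K) := by
      calc d * (x : K) * d⁻¹ = d * (d * (d * (x : K) * d⁻¹) * d⁻¹) * d⁻¹ := by rw [e2]
        _ = (d * d * d) * (x : K) * (d * d * d)⁻¹ := by group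
        _ = (x : K) := by
          rw [show d * d * d = d ^ 3 by rw [pow_succ, pow_two], hd3]; simp
    rw [e3] at e
    exact mul_eq_right.mp e.symm
  have hdecA : ∀ x ∈ A, ∃ n ∈ N, ∃ c ∈ C, x = n * c := by
    let ψ : N × C → A := fun z => ⟨(z.1 : K) * (z.2 : K), mul_mem (hNA z.1.2) z.2.2.1⟩
    have hψ : Function.Bijective ψ := by
      rw [Nat.bijective_iff_injective_and_card]
      refine ⟨fun u v e => ?_, by rw [Nat.card_prod, hcardN, hAC]⟩
      have e' : (u.1 : K) * (u.2 : K) = (v.1 : K) * (v.2 : K) := congrArg Subtype.val e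
      have h1 : (v.1 : K)⁻¹ * (u.1 : K) = (v.2 : K) * (u.2 : K)⁻¹ := by
        rw [inv_mul_eq_iff_eq_mul, ← mul_assoc, ← e', mul_inv_cancel_right]
      have h2 := hNC _ (mul_mem (inv_mem v.1.2) u.1.2) (h1 ▸ mul_mem v.2.2 (inv_mem u.2.2))
      have h3 : (u.1 : K) = (v.1 : K) := (inv_mul_eq_one.mp h2).symm
      exact Prod.ext (Subtype.ext h3) (Subtype.ext (mul_left_cancel (h3 ▸ e')))
    intro x hx
    obtain ⟨z, hz⟩ := hψ.2 ⟨x, hx⟩
    exact ⟨z.1, z.1.2, z.2, z.2.2, (congrArg Subtype.val hz).symm⟩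
  -- the normaliser of `⟨d⟩`
  set D := Subgroup.zpowers d with hD
  set H := Subgroup.normalizer (D : Set K) with hH
  have hdis : Disjoint D A := Subgroup.disjoint_def.mpr fun hu hA => hdA _ hu hA
  have hM : (A ⊔ D).index = 2 := by
    have hc : Nat.card ↥(A ⊔ D) = Nat.card A * 3 := by
      rw [← hd, ← Nat.card_zpowers, sup_comm, ← Nat.card_prod]
      refine (Nat.card_congr ?_).symm
      refine Equiv.ofBijective (fun z : A × D => (⟨(z.2 : K) * (z.1 : K),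
        mul_mem (le_sup_left (b := A) z.2.2) (le_sup_right (a := D) z.1.2)⟩ : ↥(D ⊔ A))) ⟨?_, ?_⟩
      · intro u v e
        have e' : (u.2 : K) * (u.1 : K) = (v.2 : K) * (v.1 : K) := congrArg Subtype.val e
        have h1 : (v.2 : K)⁻¹ * (u.2 : K) = (v.1 : K) * (u.1 : K)⁻¹ := by
          rw [inv_mul_eq_iff_eq_mul, ← mul_assoc, ← e', mul_inv_cancel_right]
        have h3 := (inv_mul_eq_one.mp (hdA _ (mul_mem (inv_mem v.2.2) u.2.2)
          (h1 ▸ mul_mem v.1.2 (inv_mem u.1.2)))).symm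
        exact Prod.ext (Subtype.ext (mul_left_cancel (h3 ▸ e'))) (Subtype.ext h3)
      · rintro ⟨w, hw⟩
        obtain ⟨u, hu, a, ha, rfl⟩ := Subgroup.mem_sup_of_normal_right.mp hw
        exact ⟨(⟨a, ha⟩, ⟨u, hu⟩), rfl⟩
    have h1 := (A ⊔ D).index_mul_card
    rw [hc, hcard] at h1
    have hApos : 0 < Nat.card A := Nat.card_pos
    exact Nat.eq_of_mul_eq_mul_right (by omega : 0 < Nat.card A * 3) (by rw [h1]; ring)
  haveI hMn : (A ⊔ D).Normal := Subgroup.normal_of_index_eq_two hM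
  have hKH : A ⊔ H = ⊤ := by
    have hcd : Nat.card (D.subgroupOf (A ⊔ D)) = 3 := by
      rw [Nat.card_congr (Subgroup.subgroupOfEquivOfLe le_sup_right).toEquiv, hD, Nat.card_zpowers, hd]
    have hp : IsPGroup 3 (D.subgroupOf (A ⊔ D)) := IsPGroup.of_card (n := 1) (by rw [hcd, pow_one])
    have hnd : ¬ 3 ∣ (D.subgroupOf (A ⊔ D)).index := by
      have h1 := (D.subgroupOf (A ⊔ D)).index_mul_card
      have h2 := (A ⊔ D).index_mul_card
      rw [hM, hcard] at h2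
      rw [hcd] at h1
      intro h3
      obtain ⟨m, hm⟩ := h3
      rw [hm] at h1
      have hA4 : Nat.card A = 4 * Nat.card C := hAC
      obtain ⟨j, hj⟩ := (show IsPGroup 2 A from fun x => ⟨1, Subtype.ext (by
        show (x : K) ^ 2 ^ 1 = 1
        rw [pow_one, pow_two]; exact hA2 x x.2)⟩).exists_card_eq
      have h4 : 3 ∣ 2 ^ j := ⟨m, by omega⟩
      exact absurd ((Nat.prime_dvd_prime_iff_eq Nat.prime_three Nat.prime_two).mp
        (Nat.prime_three.dvd_of_dvd_pow h4)) (by norm_num)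
    let P : Sylow 3 ↥(A ⊔ D) := hp.toSylow hnd
    have h5 := Sylow.normalizer_sup_eq_top P
    have e : (P : Subgroup ↥(A ⊔ D)).map (A ⊔ D).subtype = D :=
      Subgroup.map_subgroupOf_eq_of_le le_sup_right
    rw [e] at h5
    refine top_le_iff.mp (h5.ge.trans (sup_le le_sup_right (sup_le le_sup_left ?_)))
    exact (Subgroup.le_normalizer (H := D)).trans le_sup_right
  have hAH : ∀ y ∈ A, y ∈ H → y ∈ C := by
    intro y hy hyH
    refine ⟨hy, hfix d hd y hy ?_⟩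
    have h1 : y * d * y⁻¹ * d⁻¹ ∈ D :=
      mul_mem ((Subgroup.mem_normalizer_iff.mp hyH d).mp (Subgroup.mem_zpowers d))
        (inv_mem (Subgroup.mem_zpowers d))
    have h2 : y * d * y⁻¹ * d⁻¹ ∈ A := by
      rw [show y * d * y⁻¹ * d⁻¹ = y * (d * y⁻¹ * d⁻¹) by group]
      exact mul_mem hy ((inferInstance : A.Normal).conj_mem _ (inv_mem hy) d)
    exact (mul_inv_eq_iff_eq_mul.mp (mul_inv_eq_one.mp (hdA _ h1 h2))).symm
  have hHN : ∀ g ∈ H, ∀ n ∈ N, g * n * g⁻¹ ∈ N := by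
    rintro g hg _ ⟨x, rfl⟩
    show g * (d * (x : K) * d⁻¹ * (x : K)⁻¹) * g⁻¹ ∈ N
    set y := g * (x : K) * g⁻¹ with hy
    have hyA : y ∈ A := (inferInstance : A.Normal).conj_mem _ x.2 g
    rw [show g * (d * (x : K) * d⁻¹ * (x : K)⁻¹) * g⁻¹ = (g * d * g⁻¹) * y * (g * d * g⁻¹)⁻¹ * y⁻¹ by
      rw [hy]; group]
    rcases hz3 _ ((Subgroup.mem_normalizer_iff.mp hg d).mp (Subgroup.mem_zpowers d)) with e | e | e <;>
      rw [e]
    · simp
    · exact ⟨⟨y, hyA⟩, rfl⟩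
    · have h1 : d⁻¹ * y⁻¹ * d ∈ A := by
        simpa using (inferInstance : A.Normal).conj_mem _ (inv_mem hyA) d⁻¹
      refine ⟨⟨_, h1⟩, ?_⟩
      show d * (d⁻¹ * y⁻¹ * d) * d⁻¹ * (d⁻¹ * y⁻¹ * d)⁻¹ = d⁻¹ * y * d⁻¹⁻¹ * y⁻¹
      have h2 : d⁻¹ * y * d ∈ A := by
        simpa using (inferInstance : A.Normal).conj_mem _ hyA d⁻¹
      rw [show d * (d⁻¹ * y⁻¹ * d) * d⁻¹ * (d⁻¹ * y⁻¹ * d)⁻¹ = y⁻¹ * (d⁻¹ * y * d) by group,
        habel _ (inv_mem hyA) _ h2, inv_inv]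
  haveI hNn : N.Normal := ⟨fun n hn g => by
    obtain ⟨a, ha, g', hg', rfl⟩ := Subgroup.mem_sup_of_normal_left.mp (hKH ▸ Subgroup.mem_top g :
      g ∈ A ⊔ H)
    have h1 := hHN g' hg' n hn
    rw [show a * g' * n * (a * g')⁻¹ = a * (g' * n * g'⁻¹) * a⁻¹ by group,
      habel a ha _ (hNA h1), mul_inv_cancel_right]
    exact h1⟩
  -- the complement
  obtain ⟨b, hbA, hb2⟩ := hb
  obtain ⟨x, hx, h, hh, rfl⟩ :=
    Subgroup.mem_sup_of_normal_left.mp (hKH ▸ Subgroup.mem_top b : b ∈ A ⊔ H)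
  have hhA : h ∉ A := fun e => hbA (mul_mem hx e)
  have hh2 : h * h = 1 := by
    obtain ⟨n, hn, c, hc, e⟩ := hdecA _ (inv_mem hx)
    have h1 : h * h = n * ((x * h) * n * (x * h)⁻¹) * (c * c) := by
      have hbi : (x * h)⁻¹ = x * h := inv_eq_of_mul_eq_one_right hb2
      calc h * h = x⁻¹ * ((x * h) * x⁻¹ * (x * h)⁻¹) * ((x * h) * (x * h)) := by group
        _ = x⁻¹ * ((x * h) * x⁻¹ * (x * h)⁻¹) := by rw [hb2, mul_one]
        _ = (n * c) * ((x * h) * (n * c) * (x * h)⁻¹) := by rw [e]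
        _ = n * (c * ((x * h) * n * (x * h)⁻¹)) * ((x * h) * c * (x * h)⁻¹) := by group
        _ = _ := by rw [← hCc c hc ((x * h) * n * (x * h)⁻¹), hCc c hc (x * h)]; group
    rw [hA2 c hc.1, mul_one] at h1
    have hhN : h * h ∈ N := h1 ▸ mul_mem hn (hNn.conj_mem _ hn _)
    exact hNC _ hhN (hAH _ (hNA hhN) (mul_mem hh hh))
  set R := D ⊔ Subgroup.zpowers h with hR
  have hhH : Subgroup.zpowers h ≤ H := Subgroup.zpowers_le.mpr hh
  have hRH : R ≤ H := sup_le Subgroup.le_normalizer hhH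
  have hRA : ∀ y ∈ R, y ∈ A → y = 1 := by
    intro y hy hyA
    have hyC := hAH y hyA (hRH hy)
    rw [hR, ← SetLike.mem_coe, Subgroup.coe_mul_of_right_le_normalizer_left D _ hhH] at hy
    obtain ⟨u, hu, v, hv, rfl⟩ := hy
    obtain ⟨j, rfl⟩ := Subgroup.mem_zpowers_iff.mp hv
    simp only at hyA hyC ⊢
    rcases Int.even_or_odd j with ⟨i, rfl⟩ | ⟨i, rfl⟩
    · have e : h ^ (i + i) = 1 := by
        rw [zpow_add, ← (Commute.refl h).mul_zpow, hh2, one_zpow]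
      rw [e, mul_one] at hyA ⊢
      exact hdA u hu hyA
    · exfalso
      have e : h ^ (2 * i + 1) = h := by
        rw [zpow_add, two_mul, zpow_add, ← (Commute.refl h).mul_zpow, hh2, one_zpow, one_mul, zpow_one]
      rw [e] at hyA hyC
      have h1 : (u⁻¹ * (u * h)) * (u⁻¹ * (u * h)) = u⁻¹ * u⁻¹ * ((u * h) * (u * h)) := by
        calc (u⁻¹ * (u * h)) * (u⁻¹ * (u * h)) = u⁻¹ * ((u * h) * u⁻¹) * (u * h) := by group
          _ = u⁻¹ * (u⁻¹ * (u * h)) * (u * h) := by rw [← hCc _ hyC u⁻¹]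
          _ = _ := by group
      rw [hA2 _ hyA, mul_one, inv_mul_cancel_left, hh2] at h1
      have h2 : u * u = 1 := by rw [← inv_inj, mul_inv_rev, inv_one, ← h1]
      have hu1 : u = 1 := by
        rcases hz3 u hu with rfl | rfl | rfl
        · rfl
        · exfalso; apply hd1
          rw [pow_succ, pow_two, h2, one_mul] at hd3; exact hd3
        · exfalso; apply hd1
          rw [← mul_inv_rev, inv_eq_one] at h2
          rw [pow_succ, pow_two, h2, one_mul] at hd3; exact hd3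
      rw [hu1, one_mul] at hyA
      exact hhA hyA
  have hR6 : Nat.card R = 6 := by
    have hinj : Function.Injective ((QuotientGroup.mk' A).comp R.subtype) := by
      refine (injective_iff_map_eq_one _).mpr fun z hz => Subtype.ext ?_
      exact hRA _ z.2 ((QuotientGroup.eq_one_iff _).mp hz)
    have hle : Nat.card R ≤ 6 := by
      refine le_trans (Nat.card_le_card_of_injective _ hinj) (le_of_eq ?_)
      show A.index = 6
      have h1 := A.index_mul_card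
      rw [hcard] at h1
      exact Nat.eq_of_mul_eq_mul_right Nat.card_pos h1
    have h2 : 2 ∣ Nat.card R := by
      have := Subgroup.orderOf_dvd_natCard R (le_sup_right (a := D) (Subgroup.mem_zpowers h))
      rwa [orderOf_eq_prime (by rw [pow_two, hh2]) (fun e => hhA (by rw [e]; exact one_mem A))] at this
    have h3 : 3 ∣ Nat.card R := by
      have := Subgroup.orderOf_dvd_natCard R
        (le_sup_left (b := Subgroup.zpowers h) (Subgroup.mem_zpowers d))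
      rwa [hd] at this
    have := Nat.le_of_dvd Nat.card_pos (Nat.Coprime.mul_dvd_of_dvd_of_dvd (by norm_num) h2 h3)
    omega
  set S := N ⊔ R with hS
  have hSel : ∀ s ∈ S, ∃ n ∈ N, ∃ r ∈ R, n * r = s := fun s hs =>
    Subgroup.mem_sup_of_normal_left.mp hs
  have hNR : ∀ n ∈ N, n ∈ R → n = 1 := fun n hn hr => hRA n hr (hNA hn)
  let Φ : C × S →* K :=
    { toFun := fun z => (z.1 : K) * (z.2 : K)
      map_one' := by simp
      map_mul' := fun u v => by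
        simp only [Prod.fst_mul, Prod.snd_mul, Subgroup.coe_mul]
        rw [mul_assoc, mul_assoc, ← mul_assoc (v.1 : K), ← hCc _ v.1.2 (u.2 : K)]
        group }
  have hΦinj : Function.Injective Φ := by
    refine (injective_iff_map_eq_one Φ).mpr fun z hz => ?_
    obtain ⟨n, hn, r, hr, e⟩ := hSel _ z.2.2
    have h1 : (z.1 : K) * (z.2 : K) = 1 := hz
    rw [← e, ← mul_assoc] at h1
    have h2 : r = 1 := hRA r hr (by
      rw [eq_inv_of_mul_eq_one_right h1]; exact inv_mem (mul_mem z.1.2.1 (hNA hn)))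
    rw [h2, mul_one] at h1 e
    have h3 : n = 1 := hNC n hn (by rw [eq_inv_of_mul_eq_one_right h1]; exact inv_mem z.1.2)
    rw [h3, mul_one] at h1
    exact Prod.ext (Subtype.ext h1) (Subtype.ext (e.symm.trans h3))
  have hS24 : Nat.card S = 24 := by
    have hle : Nat.card C * Nat.card S ≤ Nat.card K := by
      rw [← Nat.card_prod]; exact Nat.card_le_card_of_injective Φ hΦinj
    let ψ : N × R → S := fun z => ⟨(z.1 : K) * (z.2 : K),
      mul_mem (le_sup_left (b := R) z.1.2) (le_sup_right (a := N) z.2.2)⟩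
    have hψ : Function.Bijective ψ := by
      refine ⟨fun u v e => ?_, fun s => ?_⟩
      · have e' : (u.1 : K) * (u.2 : K) = (v.1 : K) * (v.2 : K) := congrArg Subtype.val e
        have h1 : (v.1 : K)⁻¹ * (u.1 : K) = (v.2 : K) * (u.2 : K)⁻¹ := by
          rw [inv_mul_eq_iff_eq_mul, ← mul_assoc, ← e', mul_inv_cancel_right]
        have h3 := (inv_mul_eq_one.mp (hNR _ (mul_mem (inv_mem v.1.2) u.1.2)
          (h1 ▸ mul_mem v.2.2 (inv_mem u.2.2)))).symm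
        exact Prod.ext (Subtype.ext h3) (Subtype.ext (mul_left_cancel (h3 ▸ e')))
      · obtain ⟨n, hn, r, hr, e⟩ := hSel _ s.2
        exact ⟨(⟨n, hn⟩, ⟨r, hr⟩), Subtype.ext e⟩
    rw [← Nat.card_congr (Equiv.ofBijective ψ hψ), Nat.card_prod, hcardN, hR6]
  have hΦ : Function.Bijective Φ :=
    (Nat.bijective_iff_injective_and_card Φ).mpr
      ⟨hΦinj, by rw [Nat.card_prod, hS24, hcard, hAC]; ring⟩
  have hS4 : Nonempty (S ≃* Equiv.Perm (Fin 4)) := by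
    refine CfsgLib.Offender.nonempty_mulEquiv_perm_four hS24 (R.subgroupOf S) ?_ ?_
    · have h1 := (R.subgroupOf S).index_mul_card
      rw [Nat.card_congr (Subgroup.subgroupOfEquivOfLe (le_sup_right : R ≤ S)).toEquiv, hR6, hS24] at h1
      omega
    · refine (Subgroup.eq_bot_iff_forall _).mpr fun y hy => Subtype.ext ?_
      have hyR : (y : K) ∈ R := Subgroup.mem_subgroupOf.mp (Subgroup.normalCore_le _ hy)
      refine hRA _ hyR (hcent (Subgroup.mem_centralizer_iff.mpr fun a ha => ?_))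
      obtain ⟨n, hn, c, hc, rfl⟩ := hdecA a ha
      have hny : n * (y : K) = (y : K) * n := by
        have h1 : n * (y : K) * n⁻¹ ∈ R :=
          Subgroup.mem_subgroupOf.mp (hy ⟨n, le_sup_left (b := R) hn⟩)
        have h2 : n * (y : K) * n⁻¹ * (y : K)⁻¹ ∈ N := by
          rw [show n * (y : K) * n⁻¹ * (y : K)⁻¹ = n * ((y : K) * n⁻¹ * (y : K)⁻¹) by group]
          exact mul_mem hn (hNn.conj_mem _ (inv_mem hn) _)
        exact mul_inv_eq_iff_eq_mul.mp (mul_inv_eq_one.mp (hNR _ h2 (mul_mem h1 (inv_mem hyR))))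
      rw [mul_assoc, ← hCc c hc (y : K), ← mul_assoc, hny, mul_assoc]
  obtain ⟨e4⟩ := hS4
  refine ⟨fun h1 => ?_, fun h2 => ?_⟩
  · haveI : Subsingleton C := (Nat.card_eq_one_iff_unique.mp h1).1
    refine ⟨MulEquiv.trans (MulEquiv.ofBijective Φ hΦ).symm (MulEquiv.trans ?_ e4)⟩
    exact
      { toFun := fun z => z.2
        invFun := fun s => (1, s)
        left_inv := fun z => Prod.ext (Subsingleton.elim _ _) rfl
        right_inv := fun _ => rfl
        map_mul' := fun _ _ => rfl }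
  · haveI : Fact (Nat.Prime 2) := ⟨Nat.prime_two⟩
    exact ⟨(MulEquiv.ofBijective Φ hΦ).symm.trans
      (MulEquiv.prodCongr (mulEquivOfPrimeCardEq h2 (by
        rw [Nat.card_congr Multiplicative.toAdd, Nat.card_zmod])) e4)⟩

end Abstract

variable {X : Type*} [Group X] {M₁ M₂ : Subgroup X}

local notation "Adj" => SimpleGraph.Adj (Cfsg.cosetGraph M₁ M₂)
local notation "dst" => SimpleGraph.dist (Cfsg.cosetGraph M₁ M₂)
local notation "St" => MulAction.stabilizer X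
local notation "Ed" => Cfsg.edgeStabilizer (M₁ := M₁) (M₂ := M₂)
local notation "QQ" => Cfsg.vertexQ (M₁ := M₁) (M₂ := M₂) 2
local notation "ZZ" => Cfsg.vertexZ (M₁ := M₁) (M₂ := M₂) 2
local notation "bb" => Cfsg.criticalDistance 2 M₁ M₂

/-- The subgroup generated by the squares. -/
def sq (H : Subgroup X) : Subgroup X := Subgroup.closure ((fun x => x * x) '' (H : Set X))

theorem sq_le (H : Subgroup X) : sq H ≤ H :=
  (Subgroup.closure_le _).mpr (by rintro _ ⟨x, hx, rfl⟩; exact mul_mem hx hx)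

theorem conj_mem_sq {H : Subgroup X} {g : X} (hg : ∀ x ∈ H, g * x * g⁻¹ ∈ H) :
    ∀ y ∈ sq H, g * y * g⁻¹ ∈ sq H := by
  have : sq H ≤ (sq H).comap (MulAut.conj g).toMonoidHom := by
    refine (Subgroup.closure_le _).mpr ?_
    rintro _ ⟨x, hx, rfl⟩
    exact Subgroup.subset_closure ⟨g * x * g⁻¹, hg x hx, by simp [mul_assoc]⟩
  exact fun y hy => this hy

theorem le_normalizer_sq (H : Subgroup X) :
    Subgroup.normalizer (H : Set X) ≤ Subgroup.normalizer (sq H : Set X) := by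
  intro g hg
  rw [Subgroup.mem_normalizer_iff]
  intro y
  refine ⟨conj_mem_sq (fun x hx => (Subgroup.mem_normalizer_iff.mp hg x).mp hx) y, fun hy => ?_⟩
  have := conj_mem_sq (g := g⁻¹)
    (fun x hx => (Subgroup.mem_normalizer_iff.mp (inv_mem hg) x).mp hx) _ hy
  simpa [mul_assoc] using this

theorem sq_eq_one {H : Subgroup X} (e : sq H = ⊥) {x : X} (hx : x ∈ H) : x * x = 1 :=
  Subgroup.mem_bot.mp (e ▸ Subgroup.subset_closure ⟨x, hx, rfl⟩)

theorem comm_of_sq {H : Subgroup X} (hsq : ∀ x ∈ H, x * x = 1) {x y : X} (hx : x ∈ H) (hy : y ∈ H) :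
    x * y = y * x := by
  have := hsq _ (mul_mem hx hy)
  rw [mul_eq_one_iff_eq_inv, mul_inv_rev, inv_eq_of_mul_eq_one_right (hsq x hx),
    inv_eq_of_mul_eq_one_right (hsq y hy)] at this
  exact this

theorem normalizes_inf {A B : Subgroup X} {g : X} (hA : g ∈ Subgroup.normalizer (A : Set X))
    (hB : g ∈ Subgroup.normalizer (B : Set X)) : g ∈ Subgroup.normalizer ((A ⊓ B : Subgroup X) : Set X) := by
  rw [Subgroup.mem_normalizer_iff] at *
  exact fun x => and_congr (hA x) (hB x)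

theorem sq_eq_of_decomp {D F : Subgroup X} (hle : F ≤ D)
    (hdec : ∀ g ∈ D, ∃ f ∈ F, ∃ z : X, z * z = 1 ∧ f * z = z * f ∧ g = f * z) : sq D = sq F := by
  refine le_antisymm ((Subgroup.closure_le _).mpr ?_)
    (Subgroup.closure_mono (Set.image_mono hle))
  rintro _ ⟨g, hg, rfl⟩
  obtain ⟨f, hf, z, hz, hc, rfl⟩ := hdec g hg
  refine Subgroup.subset_closure ⟨f, hf, ?_⟩
  show f * f = f * z * (f * z)
  rw [mul_assoc f z, ← mul_assoc z f z, ← hc, mul_assoc f z z, hz, mul_one]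

namespace Hyp

variable (h : Hyp M₁ M₂)
include h

theorem adj01 (hb : bb = 2) {p : ℕ → Cfsg.CosetVertex M₁ M₂} (hp : CP p) :
    Adj (p 0) (p 1) ∧ Adj (p 1) (p 2) ∧ p 0 ≠ p 2 :=
  ⟨hp.1 0 (by omega), hp.1 1 (by omega), fun e => hp.2 (by rw [hb, ← e]; exact h.Z_le_Q _)⟩

theorem sq_inf_eq (hb : bb = 2) {p : ℕ → Cfsg.CosetVertex M₁ M₂} (hp : CP p) :
    sq (QQ (p 0) ⊓ QQ (p 1)) = sq (QQ (p 0) ⊓ QQ (p 1) ⊓ QQ (p 2)) := by
  obtain ⟨h01, h12, -⟩ := h.adj01 hb hp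
  refine sq_eq_of_decomp inf_le_left fun g hg => ?_
  have hzE : ZZ (p 0) ≤ Ed (p 2) (p 1) := by
    have := h.Z_start_le_edge hp
    rwa [hb] at this
  obtain ⟨q, hq, z, hz, rfl⟩ := h.exists_mul_edge h12.symm hzE
    (by have := hp.2; rwa [hb] at this) (h.Q_le_edge' h12.symm hg.2)
  have hz1 : z ∈ QQ (p 1) := h.le_Q_of_dist (by rw [SimpleGraph.dist_eq_one_iff_adj.mpr h01]; omega) hz
  have hz0 : z ∈ QQ (p 0) := h.Z_le_Q _ hz
  have hq0 : q ∈ QQ (p 0) := by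
    have := (QQ (p 0)).mul_mem hg.1 ((QQ (p 0)).inv_mem hz0); rwa [mul_inv_cancel_right] at this
  have hq1 : q ∈ QQ (p 1) := by
    have := (QQ (p 1)).mul_mem hg.2 ((QQ (p 1)).inv_mem hz1); rwa [mul_inv_cancel_right] at this
  exact ⟨q, ⟨⟨hq0, hq1⟩, hq⟩, z, h.Z_sq hz, h.Z_comm_Q hq0 hz, rfl⟩

theorem middle_normalizes (hb : bb = 2) {p : ℕ → Cfsg.CosetVertex M₁ M₂} (hp : CP p) :
    St (p 1) ≤ Subgroup.normalizer (sq (QQ (p 0) ⊓ QQ (p 1)) : Set X) := by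
  obtain ⟨h01, h12, h02⟩ := h.adj01 hb hp
  have e2 : sq (QQ (p 2) ⊓ QQ (p 1)) = sq (QQ (p 0) ⊓ QQ (p 1)) := by
    have := h.sq_inf_eq hb (h.reverse hp)
    simp only [hb] at this
    rw [this, h.sq_inf_eq hb hp]
    congr 1
    rw [inf_right_comm, inf_comm (QQ (p 2)), inf_right_comm]
  rw [← h.sup_edges h01.symm h12 h02]
  refine sup_le (fun g hg => ?_) (fun g hg => ?_)
  · exact le_normalizer_sq _ (normalizes_inf (h.St_le_normalizer_Q _ hg.2) (h.St_le_normalizer_Q _ hg.1))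
  · rw [← e2]
    exact le_normalizer_sq _ (normalizes_inf (h.St_le_normalizer_Q _ hg.2) (h.St_le_normalizer_Q _ hg.1))

theorem sq_one_of_two (hb : bb = 2) {p : ℕ → Cfsg.CosetVertex M₁ M₂} (hp : CP p) :
    ∀ x ∈ QQ (p 0) ⊓ QQ (p 1), x * x = 1 := by
  obtain ⟨h01, -, -⟩ := h.adj01 hb hp
  haveI := h.finite_Q (p 0)
  haveI : Finite ↥(QQ (p 0) ⊓ QQ (p 1)) :=
    h.finite_le ((inf_le_left : QQ (p 0) ⊓ QQ (p 1) ≤ QQ (p 0)).trans (Subgroup.map_subtype_le _))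
  suffices hsuf : St (p 0) ≤ Subgroup.normalizer (sq (QQ (p 0) ⊓ QQ (p 1)) : Set X) by
    intro x hx
    exact sq_eq_one (h.eq_bot_of_normalized h01
      ((sq_le _).trans (inf_le_left.trans (h.Q_le_edge h01))) hsuf (h.middle_normalizes hb hp)) hx
  obtain ⟨ν, hν, hne⟩ := h.exists_other h01
  by_cases hle : ZZ ν ≤ QQ (p (bb - 1))
  · have hgood := h.good_of_le hp (by omega) hν hne hle
    intro g hg
    refine le_normalizer_sq _ (h.mem_normalizer_of_conj fun x hx => ?_)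
    have hadj : Adj (p 0) (g • p 1) := by
      have := Cfsg.Agent.S2745.adj_smul g h01
      rwa [MulAction.mem_stabilizer_iff.mp hg] at this
    have h0 : g * x * g⁻¹ ∈ QQ (p 0) :=
      (Subgroup.mem_normalizer_iff.mp (h.St_le_normalizer_Q _ hg) x).mp hx.1
    exact ⟨h0, h.inf_Q_le hgood hadj h01 ⟨h0, h.smul_Q hx.2⟩⟩
  · have hq := h.reverse (h.shift_CP hp hν hle)
    have := h.middle_normalizes hb hq
    simp only [hb] at this
    rw [inf_comm] at this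
    exact this

theorem false_of_two (hb : bb = 2) : False := by
  obtain ⟨p, hp⟩ := h.exists_CP
  obtain ⟨h01, h12, h02⟩ := h.adj01 hb hp
  have hD1 := h.sq_one_of_two hb hp
  have hD2 : ∀ x ∈ QQ (p 2) ⊓ QQ (p 1), x * x = 1 := by
    have := h.sq_one_of_two hb (h.reverse hp)
    simpa only [hb, Nat.sub_zero, show 2 - 1 = 1 from rfl] using this
  set F := QQ (p 0) ⊓ QQ (p 1) ⊓ QQ (p 2) with hF
  have hd01 : dst (p 0) (p 1) < bb := by rw [SimpleGraph.dist_eq_one_iff_adj.mpr h01]; omega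
  have hd21 : dst (p 2) (p 1) < bb := by rw [SimpleGraph.dist_eq_one_iff_adj.mpr h12.symm]; omega
  have hzE : ZZ (p 0) ≤ Ed (p 2) (p 1) := by have := h.Z_start_le_edge hp; rwa [hb] at this
  have hzE' : ZZ (p 2) ≤ Ed (p 0) (p 1) := by have := h.Z_end_le_edge hp; rwa [hb] at this
  have hn0 : ¬ ZZ (p 0) ≤ QQ (p 2) := by have := hp.2; rwa [hb] at this
  have hn2 : ¬ ZZ (p 2) ≤ QQ (p 0) := by have := h.end_not_le hp; rwa [hb] at this
  -- `Q_x = Z_a' Z_a F`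
  have hdec : ∀ g ∈ QQ (p 1), ∃ z' ∈ ZZ (p 2), ∃ z ∈ ZZ (p 0), ∃ f ∈ F, g = f * z * z' := by
    intro g hg
    obtain ⟨q, hq, z', hz', rfl⟩ := h.exists_mul_edge h01 hzE' hn2 (h.Q_le_edge' h01 hg)
    have hq1 : q ∈ QQ (p 1) := by
      have := mul_mem hg (inv_mem (h.le_Q_of_dist hd21 hz')); rwa [mul_inv_cancel_right] at this
    obtain ⟨f, hf, z, hz, rfl⟩ := h.exists_mul_edge h12.symm hzE hn0 (h.Q_le_edge' h12.symm hq1)
    refine ⟨z', hz', z, hz, f, ⟨⟨?_, ?_⟩, hf⟩, rfl⟩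
    · have := mul_mem hq (inv_mem (h.Z_le_Q _ hz)); rwa [mul_inv_cancel_right] at this
    · have := mul_mem hq1 (inv_mem (h.le_Q_of_dist hd01 hz)); rwa [mul_inv_cancel_right] at this
  have hFc : ∀ f ∈ F, ∀ g ∈ QQ (p 1), g * f = f * g := by
    intro f hf g hg
    obtain ⟨z', hz', z, hz, f', hf', rfl⟩ := hdec g hg
    have c1 : Commute f f' := comm_of_sq hD1 hf.1 hf'.1
    have c2 : Commute f z := h.Z_comm_Q hf.1.1 hz
    have c3 : Commute f z' := h.Z_comm_Q hf.2 hz'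
    exact ((c1.mul_right c2).mul_right c3).eq.symm
  have hFmem : ∀ g ∈ QQ (p 1), (∀ y ∈ QQ (p 1), y * g = g * y) → g ∈ F := by
    intro g hg hc
    refine ⟨⟨h.mem_Q_of_commute (h.Q_le_edge' h01 hg).1 fun z hz => ?_, hg⟩,
      h.mem_Q_of_commute (h.Q_le_edge' h12.symm hg).1 fun z hz => ?_⟩
    · exact (hc z (h.le_Q_of_dist hd01 hz)).symm
    · exact (hc z (h.le_Q_of_dist hd21 hz)).symm
  have hFn : ∀ k ∈ St (p 1), ∀ f ∈ F, k * f * k⁻¹ ∈ F := by
    intro k hk f hf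
    refine hFmem _ ((Subgroup.mem_normalizer_iff.mp (h.St_le_normalizer_Q _ hk) f).mp hf.1.2) fun y hy => ?_
    have hy' : k⁻¹ * y * k ∈ QQ (p 1) := by
      simpa using (Subgroup.mem_normalizer_iff.mp (h.St_le_normalizer_Q _ (inv_mem hk)) y).mp hy
    calc y * (k * f * k⁻¹) = k * ((k⁻¹ * y * k) * f) * k⁻¹ := by group
      _ = k * (f * (k⁻¹ * y * k)) * k⁻¹ := by rw [hFc f hf _ hy']
      _ = k * f * k⁻¹ * y := by group
  -- the third neighbour
  obtain ⟨g, hg, hgQ⟩ := h.exists_mem_edge h12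
  obtain ⟨m1, m2, m3⟩ := h.moves h12 h01.symm h02 hg hgQ
  set c := g • p 0 with hc
  have hg1 : g ∈ St (p 1) := hg.1
  have hgc : ∀ x, x ∈ QQ c ⊓ QQ (p 1) ↔ g⁻¹ * x * g ∈ QQ (p 0) ⊓ QQ (p 1) := by
    intro x
    refine and_congr h.smul_Q_iff ?_
    have := h.smul_Q_iff (g := g) (δ := p 1) (x := x)
    rwa [MulAction.mem_stabilizer_iff.mp hg1] at this
  have hDc : ∀ x ∈ QQ c ⊓ QQ (p 1), x * x = 1 := by
    intro x hx
    have := hD1 _ ((hgc x).mp hx)
    calc x * x = g * ((g⁻¹ * x * g) * (g⁻¹ * x * g)) * g⁻¹ := by group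
      _ = 1 := by rw [this]; group
  have hFle : ∀ f ∈ F, f ∈ QQ c ⊓ QQ (p 1) := fun f hf =>
    (hgc f).mpr (by simpa using (hFn _ (inv_mem hg1) f hf).1)
  obtain ⟨u, hu, v, hv, huv⟩ : ∃ u ∈ ZZ (p 0), ∃ v ∈ ZZ (p 2), u * v ≠ v * u := by
    by_contra! hall
    exact hn0 fun z hz => h.mem_Q_of_commute (hzE hz).1 fun w hw => hall z hz w hw
  have huQ : u ∉ QQ (p 2) := fun e => huv (h.Z_comm_Q e hv)
  have hvQ : v ∉ QQ (p 0) := fun e => huv (h.Z_comm_Q e hu).symm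
  have hu1 : u ∈ QQ (p 1) := h.le_Q_of_dist hd01 hu
  have hv1 : v ∈ QQ (p 1) := h.le_Q_of_dist hd21 hv
  have key : ∀ a : Cfsg.CosetVertex M₁ M₂, ∀ a' : Cfsg.CosetVertex M₁ M₂, Adj (p 1) a → Adj (p 1) a' →
      a ≠ c → a ≠ a' → (∀ z ∈ QQ a ⊓ QQ (p 1), ∀ w ∈ QQ a', w ∈ QQ a ⊓ QQ (p 1) → w ∈ QQ c ⊓ QQ (p 1)) →
      (∀ r, r ∈ ZZ a → r ∈ QQ (p 1)) → ¬ ZZ a ≤ QQ a' →
      ∀ w, w ∈ QQ a ⊓ QQ (p 1) → w ∉ QQ a' → w ∉ QQ c := by
    intro a a' ha ha' hac haa hF' hZ1 hna w hw hwa' hwc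
    -- `Q_a ∩ Q_x = Q_c ∩ Q_x`
    have hle : QQ a ⊓ QQ (p 1) ≤ QQ c ⊓ QQ (p 1) := by
      intro z hz
      by_cases hza : z ∈ QQ a'
      · exact hF' z hz z hza hz
      · haveI := h.finite_Ed a' (p 1)
        have hzw : z * w ∈ QQ a' := two_coset (h.Q_le_edge ha'.symm) (h.cards ha'.symm).2
          (h.Q_le_edge' ha'.symm hz.2) (h.Q_le_edge' ha'.symm hw.2) hza hwa'
        have h2 := hF' z hz _ hzw (mul_mem hz hw)
        have h3 := mul_mem h2 (inv_mem (⟨hwc, hw.2⟩ : w ∈ QQ c ⊓ QQ (p 1)))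
        rwa [mul_inv_cancel_right] at h3
    obtain ⟨k, hk, hkc⟩ := Cfsg.Agent.S2744.result M₁ M₂ (p 1) a c ha m3
    haveI : Finite ↥(QQ c ⊓ QQ (p 1)) := h.finite_le (inf_le_right.trans (Subgroup.map_subtype_le _))
    haveI : Finite ↥(QQ a ⊓ QQ (p 1)) := h.finite_le (inf_le_right.trans (Subgroup.map_subtype_le _))
    have heq : QQ a ⊓ QQ (p 1) = QQ c ⊓ QQ (p 1) := by
      refine eq_of_le_of_card hle ?_
      refine Nat.card_le_card_of_injective (fun z : ↥(QQ c ⊓ QQ (p 1)) =>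
        (⟨k⁻¹ * (z : X) * k, ?_⟩ : ↥(QQ a ⊓ QQ (p 1)))) fun z z' e => Subtype.ext ?_
      · refine ⟨h.smul_Q_iff.mp (by rw [hkc]; exact z.2.1), ?_⟩
        simpa using (Subgroup.mem_normalizer_iff.mp (h.St_le_normalizer_Q _ (inv_mem hk)) _).mp z.2.2
      · have e' : k⁻¹ * (z : X) * k = k⁻¹ * (z' : X) * k := congrArg Subtype.val e
        exact mul_left_cancel (mul_right_cancel e')
    have hN : St (p 1) ≤ Subgroup.normalizer ((QQ a ⊓ QQ (p 1) : Subgroup X) : Set X) := by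
      rw [← h.sup_edges ha m3 hac]
      refine sup_le (fun e he => ?_) (fun e he => ?_)
      · exact normalizes_inf (h.St_le_normalizer_Q _ he.2) (h.St_le_normalizer_Q _ he.1)
      · rw [heq]
        exact normalizes_inf (h.St_le_normalizer_Q _ he.2) (h.St_le_normalizer_Q _ he.1)
    obtain ⟨k', hk', hka⟩ := Cfsg.Agent.S2744.result M₁ M₂ (p 1) a' a ha' ha
    refine hna fun z hz => ?_
    have h1 := (Subgroup.mem_normalizer_iff.mp (hN hk') z).mp ⟨h.Z_le_Q _ hz, hZ1 z hz⟩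
    have h2 := h.smul_Q_iff.mp (hka ▸ h1.1 : k' * z * k'⁻¹ ∈ QQ (k' • a'))
    simpa [mul_assoc] using h2
  have huc : u ∉ QQ c := key (p 0) (p 2) h01.symm h12 m1.symm h02
    (fun _ _ w hw hw' => hFle w ⟨⟨hw'.1, hw'.2⟩, hw⟩) (fun r hr => h.le_Q_of_dist hd01 hr) hn0 u
    ⟨h.Z_le_Q _ hu, hu1⟩ huQ
  have hvc : v ∉ QQ c := key (p 2) (p 0) h12 h01.symm m2.symm h02.symm
    (fun _ _ w hw hw' => hFle w ⟨⟨hw, hw'.2⟩, hw'.1⟩) (fun r hr => h.le_Q_of_dist hd21 hr) hn2 v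
    ⟨h.Z_le_Q _ hv, hv1⟩ hvQ
  haveI := h.finite_Ed c (p 1)
  have huvc : u * v ∈ QQ c := two_coset (h.Q_le_edge m3.symm) (h.cards m3.symm).2
    (h.Q_le_edge' m3.symm hu1) (h.Q_le_edge' m3.symm hv1) huc hvc
  have h2 := hDc _ ⟨huvc, mul_mem hu1 hv1⟩
  rw [mul_eq_one_iff_eq_inv, mul_inv_rev, h.Z_inv hu, h.Z_inv hv] at h2
  exact huv h2

theorem b_eq_one : bb = 1 := by
  obtain ⟨p, hp⟩ := h.exists_CP
  have h1 := h.one_le_b hp
  by_contra hne
  rcases Nat.eq_or_lt_of_le (by omega : 2 ≤ bb) with e | e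
  · exact h.false_of_two e.symm
  · exact h.false_of_three_le e

/-- Every edge is critical. -/
theorem edge_CP {δ μ : Cfsg.CosetVertex M₁ M₂} (hadj : Adj δ μ) : ¬ ZZ δ ≤ QQ μ := by
  obtain ⟨p, hp⟩ := h.exists_CP
  have hb := h.b_eq_one
  have h01 : Adj (p 0) (p 1) := hp.1 0 (by omega)
  have move : ∀ a c : Cfsg.CosetVertex M₁ M₂, Adj a c → ¬ ZZ a ≤ QQ c → SameSide a δ → ¬ ZZ δ ≤ QQ μ := by
    intro a c hac hne hs hle
    obtain ⟨g, rfl⟩ := exists_smul_of_sameSide hs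
    obtain ⟨k, hk, hkμ⟩ := Cfsg.Agent.S2744.result M₁ M₂ (g • a) (g • c) μ (Cfsg.Agent.S2745.adj_smul g hac) hadj
    refine hne fun z hz => ?_
    have h1 : (k * g) * z * (k * g)⁻¹ ∈ ZZ (g • a) := by
      have := h.smul_Z (g := k * g) hz
      rwa [mul_smul, MulAction.mem_stabilizer_iff.mp hk] at this
    have h2 := hle h1
    rw [← hkμ, ← mul_smul, h.smul_Q_iff] at h2
    simpa [mul_assoc] using h2
  have a := isLeft_ne_of_adj h01
  by_cases hs : SameSide (p 0) δ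
  · exact move _ _ h01 (by have := hp.2; rwa [hb] at this) hs
  · refine move _ _ h01.symm (by have := h.end_not_le hp; rwa [hb] at this) ?_
    unfold SameSide at hs ⊢
    revert hs a
    cases (p 0).isLeft <;> cases (p 1).isLeft <;> cases δ.isLeft <;> simp

theorem Q_sq {δ μ : Cfsg.CosetVertex M₁ M₂} (hadj : Adj δ μ) : ∀ x ∈ QQ δ, x * x = 1 := by
  have hdec : ∀ a c : Cfsg.CosetVertex M₁ M₂, Adj a c → sq (QQ a) = sq (QQ a ⊓ QQ c) := by
    intro a c hac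
    refine sq_eq_of_decomp inf_le_left fun g hg => ?_
    have hzE : ZZ a ≤ Ed c a := (h.Z_le_Q a).trans (h.Q_le_edge' hac.symm)
    obtain ⟨q, hq, z, hz, rfl⟩ := h.exists_mul_edge hac.symm hzE (h.edge_CP hac) (h.Q_le_edge' hac.symm hg)
    have hq0 : q ∈ QQ a := by
      have := mul_mem hg (inv_mem (h.Z_le_Q _ hz)); rwa [mul_inv_cancel_right] at this
    exact ⟨q, ⟨hq0, hq⟩, z, h.Z_sq hz, h.Z_comm_Q hq0 hz, rfl⟩
  have e : sq (QQ δ) = sq (QQ μ) := by
    rw [hdec δ μ hadj, hdec μ δ hadj.symm, inf_comm]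
  intro x hx
  exact sq_eq_one (h.eq_bot_of_normalized hadj ((sq_le _).trans (h.Q_le_edge hadj))
    ((h.St_le_normalizer_Q δ).trans (le_normalizer_sq _))
    (e ▸ (h.St_le_normalizer_Q μ).trans (le_normalizer_sq _))) hx

theorem Q_eq_Z {δ μ : Cfsg.CosetVertex M₁ M₂} (hadj : Adj δ μ) : QQ δ = ZZ δ := by
  refine le_antisymm (fun g hg => ?_) (h.Z_le_Q δ)
  have hzE : ZZ δ ≤ Ed μ δ := (h.Z_le_Q δ).trans (h.Q_le_edge' hadj.symm)
  obtain ⟨f, hf, z, hz, rfl⟩ :=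
    h.exists_mul_edge hadj.symm hzE (h.edge_CP hadj) (h.Q_le_edge' hadj.symm hg)
  have hf0 : f ∈ QQ δ := by
    have := mul_mem hg (inv_mem (h.Z_le_Q _ hz)); rwa [mul_inv_cancel_right] at this
  refine mul_mem (h.z0_le_Z hadj ⟨h.Q_le_edge hadj hf0, fun e he => ?_, h.Q_sq hadj f hf0⟩) hz
  obtain ⟨q, hq, w, hw, rfl⟩ := h.exists_mul_edge hadj
    ((h.Z_le_Q μ).trans (h.Q_le_edge' hadj)) (h.edge_CP hadj.symm) he
  rw [mul_assoc, ← h.Z_comm_Q hf hw, ← mul_assoc, comm_of_sq (h.Q_sq hadj) hq hf0, mul_assoc]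

theorem z0_eq {δ μ : Cfsg.CosetVertex M₁ M₂} (hadj : Adj δ μ) : z0 δ μ = QQ δ ⊓ QQ μ := by
  refine le_antisymm (le_inf ((h.z0_le_Z hadj).trans (h.Z_le_Q δ))
    ((z0_comm δ μ).le.trans ((h.z0_le_Z hadj.symm).trans (h.Z_le_Q μ)))) fun f hf => ?_
  refine ⟨h.Q_le_edge hadj hf.1, fun e he => ?_, h.Q_sq hadj f hf.1⟩
  obtain ⟨q, hq, w, hw, rfl⟩ := h.exists_mul_edge hadj
    ((h.Z_le_Q μ).trans (h.Q_le_edge' hadj)) (h.edge_CP hadj.symm) he
  rw [mul_assoc, ← h.Z_comm_Q hf.2 hw, ← mul_assoc, comm_of_sq (h.Q_sq hadj) hq hf.1, mul_assoc]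

theorem z0_two {δ μ : Cfsg.CosetVertex M₁ M₂} (hadj : Adj δ μ) {x y : X} (hx : x ∈ QQ δ) (hy : y ∈ QQ δ)
    (hx' : x ∉ z0 δ μ) (hy' : y ∉ z0 δ μ) : x * y ∈ z0 δ μ := by
  rw [h.z0_eq hadj] at *
  haveI := h.finite_Ed μ δ
  exact ⟨mul_mem hx hy, two_coset (h.Q_le_edge hadj.symm) (h.cards hadj.symm).2
    (h.Q_le_edge' hadj.symm hx) (h.Q_le_edge' hadj.symm hy) (fun e => hx' ⟨hx, e⟩) (fun e => hy' ⟨hy, e⟩)⟩

/-- The central part of `Q δ`. -/
def cc (δ : Cfsg.CosetVertex M₁ M₂) : Subgroup X := QQ δ ⊓ Subgroup.centralizer (St δ : Set X)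

theorem cc_le {δ μ : Cfsg.CosetVertex M₁ M₂} (hadj : Adj δ μ) : cc δ ≤ z0 δ μ := fun x hx =>
  ⟨h.Q_le_edge hadj hx.1, fun e he => Subgroup.mem_centralizer_iff.mp hx.2 e he.1, h.Q_sq hadj x hx.1⟩

theorem mem_cc_of_two {δ μ μ' : Cfsg.CosetVertex M₁ M₂} (hadj : Adj δ μ) (hadj' : Adj δ μ')
    (hne : μ ≠ μ') {x : X} (hx : x ∈ z0 δ μ) (hx' : x ∈ z0 δ μ') : x ∈ cc δ := by
  refine ⟨(h.Z_le_Q δ) (h.z0_le_Z hadj hx), ?_⟩
  show x ∈ Subgroup.centralizer _
  rw [Subgroup.mem_centralizer_iff]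
  intro g hg
  obtain ⟨e, he, heQ⟩ := h.exists_mem_edge hadj'
  exact h.central_of_commute hadj hx.2.1 he.1
    (h.not_mem_edge hadj' hadj hne he heQ) (hx'.2.1 e he) g hg

theorem exists_not_cc {δ μ : Cfsg.CosetVertex M₁ M₂} (hadj : Adj δ μ) :
    ∃ u ∈ z0 δ μ, u ∉ cc δ := by
  obtain ⟨g, hg, z, hz, hne⟩ := h.not_act hadj
  exact ⟨z, hz, fun e => hne (Subgroup.mem_centralizer_iff.mp e.2 g hg)⟩

theorem card_Q {δ μ : Cfsg.CosetVertex M₁ M₂} (hadj : Adj δ μ) :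
    Nat.card ↥(z0 δ μ) = 2 * Nat.card ↥(cc δ) ∧ Nat.card ↥(QQ δ) = 2 * Nat.card ↥(z0 δ μ) ∧
      Nat.card ↥(cc δ) ≤ 2 := by
  have idx : ∀ (H K : Subgroup X), H ≤ K → (∃ u ∈ K, u ∉ H) →
      (∀ x ∈ K, ∀ y ∈ K, x ∉ H → y ∉ H → x * y ∈ H) → Nat.card K = 2 * Nat.card H := by
    rintro H K hle ⟨u, hu, huH⟩ hprod
    have h2 : H.relIndex K = 2 := by
      refine Subgroup.relIndex_eq_two_iff.mpr ⟨u, hu, fun b hb => ?_⟩
      by_cases hbH : b ∈ H
      · exact Or.inr ⟨hbH, fun e => huH (by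
          have := mul_mem (inv_mem hbH) e; rwa [inv_mul_cancel_left] at this)⟩
      · exact Or.inl ⟨hprod b hb u hu hbH huH, hbH⟩
    have := Subgroup.relIndex_mul_relIndex (⊥ : Subgroup X) H K bot_le hle
    rw [Subgroup.relIndex_bot_left, Subgroup.relIndex_bot_left, h2] at this
    omega
  obtain ⟨ν, hν, hne⟩ := h.exists_other hadj
  have hz0Q : ∀ a c, Adj a c → z0 a c ≤ QQ a := fun a c hac => by
    rw [h.z0_eq hac]; exact inf_le_left
  have c1 : Nat.card ↥(z0 δ μ) = 2 * Nat.card ↥(cc δ) :=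
    idx _ _ (h.cc_le hadj) (h.exists_not_cc hadj) fun x hx y hy hx' hy' => by
      refine h.mem_cc_of_two hadj hν hne.symm (mul_mem hx hy) (h.z0_two hν (hz0Q _ _ hadj hx)
        (hz0Q _ _ hadj hy) (fun e => hx' ?_) (fun e => hy' ?_))
      · exact h.mem_cc_of_two hadj hν hne.symm hx e
      · exact h.mem_cc_of_two hadj hν hne.symm hy e
  have c2 : Nat.card ↥(QQ δ) = 2 * Nat.card ↥(z0 δ μ) := by
    refine idx _ _ (hz0Q _ _ hadj) ?_ fun x hx y hy hx' hy' => h.z0_two hadj hx hy hx' hy'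
    obtain ⟨u, hu, huQ⟩ := SetLike.not_le_iff_exists.mp (h.edge_CP hadj)
    exact ⟨u, h.Z_le_Q δ hu, fun e => huQ ((h.z0_eq hadj).le e).2⟩
  refine ⟨c1, c2, ?_⟩
  -- `cc δ ∩ cc μ = 1`
  haveI : Finite ↥(cc δ) := h.finite_le ((h.cc_le hadj).trans ((z0_le δ μ).trans inf_le_left))
  have hdis : ∀ x ∈ cc δ, x ∈ cc μ → x = 1 := fun x hx hx' =>
    h.eq_one_of_centralized hadj (h.Q_le_edge hadj hx.1)
      (fun g hg => Subgroup.mem_centralizer_iff.mp hx.2 g hg)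
      (fun g hg => Subgroup.mem_centralizer_iff.mp hx'.2 g hg)
  obtain ⟨ν', hν', hne'⟩ := h.exists_other hadj.symm
  have hval : ∀ x : ↥(cc δ), ∀ y : ↥(cc δ), (x : X) ≠ 1 → (y : X) ≠ 1 → x = y := by
    intro x y hx hy
    have hxz := h.cc_le hadj x.2
    have hyz := h.cc_le hadj y.2
    rw [z0_comm] at hxz hyz
    have hQ : ∀ w ∈ z0 μ δ, w ∈ QQ μ := hz0Q _ _ hadj.symm
    have hn : ∀ w : ↥(cc δ), (w : X) ≠ 1 → (w : X) ∉ z0 μ ν' := fun w hw e =>
      hw (hdis _ w.2 (h.mem_cc_of_two hadj.symm hν' hne'.symm (z0_comm δ μ ▸ h.cc_le hadj w.2) e))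
    have h3 := hdis _ (mul_mem x.2 y.2) (h.mem_cc_of_two hadj.symm hν' hne'.symm (mul_mem hxz hyz)
      (h.z0_two hν' (hQ _ hxz) (hQ _ hyz) (hn x hx) (hn y hy)))
    apply Subtype.ext
    rw [mul_eq_one_iff_eq_inv, inv_eq_of_mul_eq_one_right (h.Q_sq hadj _ y.2.1)] at h3
    exact h3
  classical
  refine le_trans (Nat.card_le_card_of_injective (β := Bool)
    (fun x : ↥(cc δ) => decide ((x : X) = 1)) fun x y e => ?_) (by simp)
  simp only at e
  by_cases hx : (x : X) = 1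
  · rw [decide_eq_true hx] at e
    exact Subtype.ext (hx.trans (of_decide_eq_true e.symm).symm)
  · rw [decide_eq_false hx] at e
    exact hval x y hx (of_decide_eq_false e.symm)

theorem vertex_structure {δ μ : Cfsg.CosetVertex M₁ M₂} (hadj : Adj δ μ) :
    (Nat.card ↥(cc δ) = 1 → Nonempty (↥(St δ) ≃* Equiv.Perm (Fin 4))) ∧
      (Nat.card ↥(cc δ) = 2 → Nonempty (↥(St δ) ≃* Multiplicative (ZMod 2) × Equiv.Perm (Fin 4))) := by
  haveI := h.finite_St δ
  haveI hAn : (Cfsg.pCore 2 ↥(St δ)).Normal := CfsgLib.Fitting.pCore_normal 2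
  set A := Cfsg.pCore 2 ↥(St δ) with hA
  have hmem : ∀ x : ↥(St δ), x ∈ A ↔ (x : X) ∈ QQ δ := fun x =>
    (Subgroup.mem_map_iff_mem (St δ).subtype_injective).symm
  have hQc : Nat.card A = Nat.card ↥(QQ δ) :=
    (Subgroup.card_map_of_injective (St δ).subtype_injective).symm
  have hcc : Nat.card ↥(A ⊓ Subgroup.center ↥(St δ)) = Nat.card ↥(cc δ) := by
    have e : (A ⊓ Subgroup.center ↥(St δ)).map (St δ).subtype = cc δ := by
      ext x
      constructor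
      · rintro ⟨y, hy, rfl⟩
        exact ⟨(hmem y).mp hy.1, Subgroup.mem_centralizer_iff.mpr fun g hg =>
          congrArg Subtype.val (Subgroup.mem_center_iff.mp hy.2 ⟨g, hg⟩)⟩
      · intro hx
        refine ⟨⟨x, (h.Q_le_edge hadj hx.1).1⟩, ⟨(hmem _).mpr hx.1, ?_⟩, rfl⟩
        exact Subgroup.mem_center_iff.mpr fun g => Subtype.ext (Subgroup.mem_centralizer_iff.mp hx.2 g g.2)
    rw [← e, Subgroup.card_map_of_injective (St δ).subtype_injective]
  obtain ⟨c1, c2, -⟩ := h.card_Q hadj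
  rw [← hcc]
  refine structure_of_six A (fun x hx => Subtype.ext (h.Q_sq hadj _ ((hmem x).mp hx)))
    (stab_charP h.pair δ) (by rw [(h.cards hadj).1, hQc]) (by rw [hQc, hcc, c2, c1]; ring)
    (fun d hd x hx hc => ?_) ?_
  · -- fixed points of elements of order three
    obtain ⟨ν, hν, hne⟩ := h.exists_other hadj
    obtain ⟨g, hg, hgQ⟩ := h.exists_mem_edge hadj
    obtain ⟨m1, m2, m3⟩ := h.moves hadj hν hne hg hgQ
    have hxQ := (hmem x).mp hx
    have hsome : ∃ ν', Adj δ ν' ∧ (x : X) ∈ z0 δ ν' := by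
      by_cases hxμ : (x : X) ∈ z0 δ μ
      · exact ⟨μ, hadj, hxμ⟩
      by_cases hxν : (x : X) ∈ z0 δ ν
      · exact ⟨ν, hν, hxν⟩
      refine ⟨g • ν, m3, by_contra fun hxρ => ?_⟩
      obtain ⟨u, hu, huc⟩ := h.exists_not_cc hadj
      obtain ⟨v, hv, hvc⟩ := h.exists_not_cc hν
      have hzQ : ∀ {a : Cfsg.CosetVertex M₁ M₂}, Adj δ a → ∀ w ∈ z0 δ a, w ∈ QQ δ :=
        fun ha w hw => ((h.z0_eq ha).le hw).1
      have huQ := hzQ hadj u hu
      have hvQ := hzQ hν v hv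
      have hxvμ : (x : X) * v ∈ z0 δ μ :=
        h.z0_two hadj hxQ hvQ hxμ fun e => hvc (h.mem_cc_of_two hadj hν hne.symm e hv)
      have huρ : u ∉ z0 δ (g • ν) := fun e => huc (h.mem_cc_of_two hadj m3 m2.symm hu e)
      have hvρ : v ∉ z0 δ (g • ν) := fun e => hvc (h.mem_cc_of_two hν m3 m1.symm hv e)
      have hxvρ : (x : X) * v ∈ z0 δ (g • ν) := h.z0_two m3 hxQ hvQ hxρ hvρ
      have hcc' := h.mem_cc_of_two hadj m3 m2.symm hxvμ hxvρ
      apply hxν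
      have := mul_mem (h.cc_le hν hcc') (inv_mem hv)
      rwa [mul_inv_cancel_right] at this
    obtain ⟨ν', hν', hx'⟩ := hsome
    have hdE : (d : X) ∉ Ed δ ν' := by
      intro e
      obtain ⟨k, hk⟩ := IsPGroup.iff_orderOf.mp (h.isPGroup_edge hν') ⟨(d : X), e⟩
      rw [Subgroup.orderOf_mk, Subgroup.orderOf_coe, hd] at hk
      rcases Nat.eq_zero_or_pos k with rfl | hk0
      · simp at hk
      · have : 2 ∣ 3 := hk ▸ dvd_pow_self 2 hk0.ne'
        omega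
    exact Subgroup.mem_center_iff.mpr fun k => Subtype.ext
      (h.central_of_commute hν' hx'.2.1 d.2 hdE (congrArg Subtype.val hc) k k.2)
  · obtain ⟨v, hv, hvQ⟩ := SetLike.not_le_iff_exists.mp (h.edge_CP hadj.symm)
    exact ⟨⟨v, (h.Q_le_edge' hadj (h.Z_le_Q μ hv)).1⟩, fun e => hvQ ((hmem _).mp e),
      Subtype.ext (h.Z_sq hv)⟩

theorem amalgam_structure {δ μ : Cfsg.CosetVertex M₁ M₂} (hadj : Adj δ μ) :
    (Nonempty (↥(St δ) ≃* Equiv.Perm (Fin 4)) ∧ Nonempty (↥(St μ) ≃* Equiv.Perm (Fin 4))) ∨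
      (Nonempty (↥(St δ) ≃* Multiplicative (ZMod 2) × Equiv.Perm (Fin 4)) ∧
        Nonempty (↥(St μ) ≃* Multiplicative (ZMod 2) × Equiv.Perm (Fin 4))) := by
  obtain ⟨c1, -, c3⟩ := h.card_Q hadj
  obtain ⟨d1, -, -⟩ := h.card_Q hadj.symm
  rw [z0_comm μ δ, c1] at d1
  haveI : Finite ↥(cc δ) := h.finite_le ((h.cc_le hadj).trans ((z0_le δ μ).trans inf_le_left))
  have hpos : 0 < Nat.card ↥(cc δ) := Nat.card_pos
  obtain e | e : Nat.card ↥(cc δ) = 1 ∨ Nat.card ↥(cc δ) = 2 := by omega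
  · exact Or.inl ⟨(h.vertex_structure hadj).1 e, (h.vertex_structure hadj.symm).1 (by omega)⟩
  · exact Or.inr ⟨(h.vertex_structure hadj).2 e, (h.vertex_structure hadj.symm).2 (by omega)⟩

end Hyp

end CfsgLib.Amalgam.Cubic
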