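import Cfsg.Prelude.Def_LocalStructure
import Cfsg.Agent.Lib.Amalgam.Basic
import Cfsg.Agent.Lib.Transfer.Sylow
import Cfsg.Agent.S2744
import Cfsg.Agent.S2745
import Cfsg.Agent.S2750

/-!
The iterated closures `V_δ^{(n)}` of an amalgam: equivariance, decomposition over the neighbours,
and generation by one neighbour closure together with the commutator with `O^p(O^{p'}(G_δ))`.
-/

set_option autoImplicit false
set_option linter.style.haveILetI false
open Cfsg
open scoped commutatorElement Pointwise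

namespace CfsgLib.Amalgam

variable {X : Type*} [Group X] {p : ℕ} [Fact p.Prime] {M₁ M₂ : Subgroup X}

omit [Fact p.Prime] in
theorem map_conj_inv_map (g : X) (H : Subgroup X) :
    (H.map (MulAut.conj g⁻¹).toMonoidHom).map (MulAut.conj g).toMonoidHom = H := by
  rw [Subgroup.map_map]
  conv_rhs => rw [← Subgroup.map_id H]
  refine congrArg (fun φ => Subgroup.map φ H) ?_
  ext x
  simp [mul_assoc]

theorem sylowCenterClosure_map_le (g : X) (H : Subgroup X) [Finite H] :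
    (Cfsg.sylowCenterClosure p H).map (MulAut.conj g).toMonoidHom ≤
      Cfsg.sylowCenterClosure p (H.map (MulAut.conj g).toMonoidHom) := by
  unfold Cfsg.sylowCenterClosure
  rw [Subgroup.map_iSup]
  refine iSup_le fun S => ?_
  let e := H.equivMapOfInjective (MulAut.conj g).toMonoidHom (MulAut.conj g).injective
  refine le_iSup_of_le (S.mapSurjective (f := e.toMonoidHom) e.surjective) ?_
  rw [omegaOne_conj]
  have key : ((S.mapSurjective (f := e.toMonoidHom) e.surjective : Sylow p _) :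
        Subgroup ↥(H.map (MulAut.conj g).toMonoidHom)).map (H.map (MulAut.conj g).toMonoidHom).subtype =
      ((S : Subgroup H).map H.subtype).map (MulAut.conj g).toMonoidHom := by
    change ((S : Subgroup H).map e.toMonoidHom).map _ = _
    rw [Subgroup.map_map, Subgroup.map_map]
    rfl
  rw [key]

omit [Fact p.Prime] in
theorem stabilizer_smul' (g : X) (δ : Cfsg.CosetVertex M₁ M₂) :
    MulAction.stabilizer X (g • δ) = (MulAction.stabilizer X δ).map (MulAut.conj g).toMonoidHom :=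
  MulAction.stabilizer_smul_eq_stabilizer_map_conj g δ

theorem vertexZ_smul_le (h : Cfsg.IsCharPAmalgamPair p M₁ M₂) (g : X) (δ : Cfsg.CosetVertex M₁ M₂) :
    (Cfsg.vertexZ p δ).map (MulAut.conj g).toMonoidHom ≤ Cfsg.vertexZ p (g • δ) := by
  haveI := finite_stabilizer h δ
  unfold Cfsg.vertexZ
  rw [stabilizer_smul']
  exact sylowCenterClosure_map_le g _

omit [Fact p.Prime] in
theorem dist_smul_le (h : Cfsg.IsCharPAmalgamPair p M₁ M₂) (g : X) (δ μ : Cfsg.CosetVertex M₁ M₂) :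
    (Cfsg.cosetGraph M₁ M₂).dist (g • δ) (g • μ) ≤ (Cfsg.cosetGraph M₁ M₂).dist δ μ := by
  obtain ⟨w, hw⟩ := (Cfsg.Agent.S2740.result M₁ M₂ h.1.1).exists_walk_length_eq_dist δ μ
  let f : Cfsg.cosetGraph M₁ M₂ →g Cfsg.cosetGraph M₁ M₂ :=
    ⟨fun v => g • v, fun hab => Cfsg.Agent.S2745.adj_smul g hab⟩
  have := SimpleGraph.dist_le (w.map f)
  rw [SimpleGraph.Walk.length_map, hw] at this
  exact this

theorem vIter_smul_le (h : Cfsg.IsCharPAmalgamPair p M₁ M₂) (g : X) (n : ℕ) (δ : Cfsg.CosetVertex M₁ M₂) :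
    (Cfsg.vertexVIter p M₁ M₂ n δ).map (MulAut.conj g).toMonoidHom ≤ Cfsg.vertexVIter p M₁ M₂ n (g • δ) := by
  unfold Cfsg.vertexVIter
  rw [Subgroup.map_iSup]
  exact iSup_le fun μ => le_iSup_of_le ⟨g • (μ : Cfsg.CosetVertex M₁ M₂), (dist_smul_le h g δ μ).trans μ.2⟩
    (vertexZ_smul_le h g μ)

theorem le_normalizer_vIter (h : Cfsg.IsCharPAmalgamPair p M₁ M₂) (n : ℕ) (δ : Cfsg.CosetVertex M₁ M₂) :
    MulAction.stabilizer X δ ≤ Subgroup.normalizer (Cfsg.vertexVIter p M₁ M₂ n δ : Set X) := by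
  intro g hg
  have key : ∀ k ∈ MulAction.stabilizer X δ, ∀ x ∈ Cfsg.vertexVIter p M₁ M₂ n δ,
      k * x * k⁻¹ ∈ Cfsg.vertexVIter p M₁ M₂ n δ := fun k hk x hx => by
    have := vIter_smul_le h k n δ ⟨x, hx, rfl⟩
    rwa [MulAction.mem_stabilizer_iff.mp hk] at this
  rw [Subgroup.mem_normalizer_iff]
  intro x
  refine ⟨key g hg x, fun hx => ?_⟩
  have := key g⁻¹ (Subgroup.inv_mem _ hg) _ hx
  simpa [mul_assoc] using this

omit [Fact p.Prime] in
theorem vertexZ_le_vIter {n : ℕ} {δ μ : Cfsg.CosetVertex M₁ M₂}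
    (hd : (Cfsg.cosetGraph M₁ M₂).dist δ μ ≤ n) :
    Cfsg.vertexZ p μ ≤ Cfsg.vertexVIter p M₁ M₂ n δ :=
  le_iSup_of_le ⟨μ, hd⟩ le_rfl

omit [Fact p.Prime] in
theorem vIter_le_vIter (h : Cfsg.IsCharPAmalgamPair p M₁ M₂) {m n : ℕ} {δ μ : Cfsg.CosetVertex M₁ M₂}
    (hd : (Cfsg.cosetGraph M₁ M₂).dist δ μ + m ≤ n) :
    Cfsg.vertexVIter p M₁ M₂ m μ ≤ Cfsg.vertexVIter p M₁ M₂ n δ :=
  iSup_le fun ν => vertexZ_le_vIter
    (((Cfsg.Agent.S2740.result M₁ M₂ h.1.1).dist_triangle (v := μ)).trans (le_trans (by have := ν.2; omega) hd))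

omit [Fact p.Prime] in
theorem exists_adj (_h : Cfsg.IsCharPAmalgamPair p M₁ M₂) (δ : Cfsg.CosetVertex M₁ M₂) :
    ∃ μ, (Cfsg.cosetGraph M₁ M₂).Adj δ μ := by
  rcases δ with v | v <;> induction v using QuotientGroup.induction_on with | H x => ?_
  · exact ⟨_, Cfsg.Agent.S2740.adj_of_mem M₁ M₂ x⟩
  · exact ⟨_, (Cfsg.Agent.S2740.adj_of_mem M₁ M₂ x).symm⟩

omit [Fact p.Prime] in
theorem dvd_card_stabilizer (h : Cfsg.IsCharPAmalgamPair p M₁ M₂) (δ : Cfsg.CosetVertex M₁ M₂) :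
    p ∣ Nat.card ↥(MulAction.stabilizer X δ) := by
  obtain ⟨-, -, -, h1, h2, -⟩ := h
  rcases δ with v | v <;> induction v using QuotientGroup.induction_on with | H x => ?_
  · rw [Cfsg.Agent.S2741.stab_inl, Subgroup.card_map_of_injective (MulAut.conj x).injective]
    exact h1
  · rw [Cfsg.Agent.S2741.stab_inr, Subgroup.card_map_of_injective (MulAut.conj x).injective]
    exact h2

theorem vertexZ_ne_bot (h : Cfsg.IsCharPAmalgamPair p M₁ M₂) (δ : Cfsg.CosetVertex M₁ M₂) :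
    Cfsg.vertexZ p δ ≠ ⊥ := by
  haveI := finite_stabilizer h δ
  obtain ⟨S⟩ := (inferInstance : Nonempty (Sylow p ↥(MulAction.stabilizer X δ)))
  haveI : Nontrivial ↥(S : Subgroup ↥(MulAction.stabilizer X δ)) :=
    (Subgroup.nontrivial_iff_ne_bot _).mpr (S.ne_bot_of_dvd_card (dvd_card_stabilizer h δ))
  haveI := S.2.center_nontrivial
  obtain ⟨k, hk, hk'⟩ :=
    (S.2.to_subgroup (Subgroup.center ↥(S : Subgroup ↥(MulAction.stabilizer X δ)))).nontrivial_iff_card.mp inferInstance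
  obtain ⟨z, hz⟩ := exists_prime_orderOf_dvd_card' p (hk' ▸ dvd_pow_self p hk.ne')
  intro hbot
  set T := (S : Subgroup ↥(MulAction.stabilizer X δ)).map (MulAction.stabilizer X δ).subtype with hT
  have hzp : ((z : ↥(S : Subgroup ↥(MulAction.stabilizer X δ))) : ↥(MulAction.stabilizer X δ)) ^ p = 1 := by
    have e := pow_orderOf_eq_one z
    rw [hz] at e
    have := congrArg (fun w : ↥(Subgroup.center ↥(S : Subgroup ↥(MulAction.stabilizer X δ))) =>
      ((w : ↥(S : Subgroup ↥(MulAction.stabilizer X δ))) : ↥(MulAction.stabilizer X δ))) e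
    simpa using this
  have hmem : (((z : ↥(S : Subgroup ↥(MulAction.stabilizer X δ))) : ↥(MulAction.stabilizer X δ)) : X) ∈
      Cfsg.omegaOne p (T ⊓ Subgroup.centralizer (T : Set X)) := by
    refine Subgroup.subset_closure ⟨⟨⟨_, (z : ↥(S : Subgroup ↥(MulAction.stabilizer X δ))).2, rfl⟩, ?_⟩, ?_⟩
    · change _ ∈ Subgroup.centralizer _
      rw [Subgroup.mem_centralizer_iff]
      rintro _ ⟨t, ht, rfl⟩
      exact congrArg (fun w : ↥(S : Subgroup ↥(MulAction.stabilizer X δ)) => ((w : ↥(MulAction.stabilizer X δ)) : X))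
        (Subgroup.mem_center_iff.mp z.2 ⟨t, ht⟩)
    · exact congrArg Subtype.val hzp
  have := omega_center_le_vertexZ (p := p) δ S hT hmem
  rw [hbot, Subgroup.mem_bot] at this
  have h1 : z = 1 := Subtype.ext (Subtype.ext (Subtype.ext this))
  rw [h1, orderOf_one] at hz
  exact (Fact.out : p.Prime).one_lt.ne hz

/-- `O^p(O^{p'}(G_δ))`, in the ambient group, is transitive on the neighbours of `δ`. -/
theorem residual_transitive (h : Cfsg.IsSpeAmalgamPair p M₁ M₂) {δ μ ν : Cfsg.CosetVertex M₁ M₂}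
    (hadj : (Cfsg.cosetGraph M₁ M₂).Adj δ μ) (hν : (Cfsg.cosetGraph M₁ M₂).Adj δ ν) :
    ∃ l ∈ (Cfsg.pResidual p ↥(Cfsg.pElementClosure p (MulAction.stabilizer X δ))).map
      (Cfsg.pElementClosure p (MulAction.stabilizer X δ)).subtype, l • μ = ν := by
  have hc := h.1
  haveI := finite_edge hc δ μ
  haveI := finite_stabilizer hc δ
  obtain ⟨S⟩ := (inferInstance : Nonempty (Sylow p ↥(Cfsg.edgeStabilizer δ μ)))
  set T := (S : Subgroup ↥(Cfsg.edgeStabilizer δ μ)).map (Cfsg.edgeStabilizer δ μ).subtype with hT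
  obtain ⟨P, hP⟩ := exists_sylow_vertex hc hadj S
  set E := Cfsg.pElementClosure p (MulAction.stabilizer X δ) with hE
  have hEH := pElementClosure_le (p := p) (MulAction.stabilizer X δ)
  haveI : Finite ↥E := Finite.of_injective (Subgroup.inclusion hEH) (Subgroup.inclusion_injective _)
  obtain ⟨e, he, hev⟩ : ∃ e ∈ E, e • μ = ν := by
    set E' := E.subgroupOf (MulAction.stabilizer X δ) with hE'
    obtain ⟨a, ha, hav⟩ := Cfsg.Agent.S2744.result M₁ M₂ δ μ ν hadj hν
    have hall : ∀ Q : Sylow p ↥(MulAction.stabilizer X δ), (Q : Subgroup ↥(MulAction.stabilizer X δ)) ≤ E' :=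
      fun Q q hq => pGroup_le_pElementClosure (Subgroup.map_subtype_le _)
        (Q.2.map (MulAction.stabilizer X δ).subtype) ⟨q, hq, rfl⟩
    haveI : E'.Normal := by
      refine ⟨fun x hx k => ?_⟩
      have hle : E ≤ E.comap (MulAut.conj (k : X)).toMonoidHom := by
        refine (Subgroup.closure_le _).mpr fun y hy => ?_
        exact Subgroup.subset_closure ⟨(MulAction.stabilizer X δ).mul_mem
          ((MulAction.stabilizer X δ).mul_mem k.2 hy.1) ((MulAction.stabilizer X δ).inv_mem k.2),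
          hy.2.imp fun i hi => by
            rw [← hi]; exact orderOf_injective (MulAut.conj (k : X)).toMonoidHom (MulAut.conj (k : X)).injective y⟩
      exact hle hx
    have htop := Sylow.normalizer_sup_eq_top' P (hall P)
    obtain ⟨n, hn, e', he', hne⟩ := Subgroup.mem_sup_of_normal_right.mp (htop.ge (Subgroup.mem_top ⟨a, ha⟩))
    refine ⟨(n : X) * e' * (n : X)⁻¹, ?_, ?_⟩
    · have : n * e' * n⁻¹ ∈ E' := Subgroup.Normal.conj_mem inferInstance e' he' n
      exact this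
    · have hnT : (n : X) ∈ Subgroup.normalizer (T : Set X) := by
        rw [hT, ← hP]
        exact Subgroup.le_normalizer_map _ (Subgroup.mem_map_of_mem _ hn)
      have hfix := MulAction.mem_stabilizer_iff.mp
        (((Cfsg.Agent.S2750.norm_edge M₁ M₂ h hadj S hT).1 ⟨n.2, hnT⟩).2)
      have hfix' : (n : X)⁻¹ • μ = μ := inv_smul_eq_iff.mpr hfix.symm
      rw [mul_smul, hfix', ← hav, ← show (n : X) * e' = a from congrArg Subtype.val hne]
  obtain ⟨T₀, hT₀⟩ := (S.2.map (Cfsg.edgeStabilizer δ μ).subtype |>.comap_of_injective E.subtype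
    E.subtype_injective).exists_le_sylow
  have hTE : T ≤ E := pGroup_le_pElementClosure ((Subgroup.map_subtype_le _).trans inf_le_left)
    (S.2.map _)
  have heq : (T₀ : Subgroup E).map E.subtype = T := by
    refine le_antisymm ?_ fun x hx => ⟨⟨x, hTE hx⟩, hT₀ hx, rfl⟩
    have hle : (T₀ : Subgroup E).map E.subtype ≤ MulAction.stabilizer X δ :=
      (Subgroup.map_subtype_le _).trans hEH
    have hPle : (P : Subgroup ↥(MulAction.stabilizer X δ)) ≤
        ((T₀ : Subgroup E).map E.subtype).subgroupOf (MulAction.stabilizer X δ) := fun x hx => by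
      have hx' : (x : X) ∈ T := by rw [hT, ← hP]; exact ⟨x, hx, rfl⟩
      exact ⟨⟨x, hTE hx'⟩, hT₀ hx', rfl⟩
    have := P.3 ((T₀.2.map E.subtype).comap_of_injective (MulAction.stabilizer X δ).subtype
      (Subgroup.subtype_injective _)) hPle
    intro x hx
    rw [hT, ← hP]
    exact ⟨⟨x, hle hx⟩, this.le hx, rfl⟩
  haveI := CfsgLib.Transfer.pResidual_normal p ↥E
  obtain ⟨l, hl, t, ht, hlt⟩ := Subgroup.mem_sup_of_normal_left.mp
    (((sup_comm _ _).trans (CfsgLib.Transfer.sylow_sup_pResidual T₀)).ge (Subgroup.mem_top ⟨e, he⟩))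
  refine ⟨(l : X), ⟨l, hl, rfl⟩, ?_⟩
  have htμ : (t : X) • μ = μ := by
    have : (t : X) ∈ T := heq ▸ Subgroup.mem_map_of_mem _ ht
    exact MulAction.mem_stabilizer_iff.mp ((Subgroup.map_subtype_le _ : T ≤ Cfsg.edgeStabilizer δ μ) this).2
  rw [← hev, ← show (l : X) * t = e from congrArg Subtype.val hlt, mul_smul, htμ]

/-- `V_δ^{(n)}` is generated by the closures of the neighbours. -/
theorem vIter_le_iSup (h : Cfsg.IsCharPAmalgamPair p M₁ M₂) {n : ℕ} (hn : 1 ≤ n)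
    (δ : Cfsg.CosetVertex M₁ M₂) {K : Subgroup X}
    (hK : ∀ ν, (Cfsg.cosetGraph M₁ M₂).Adj δ ν → Cfsg.vertexVIter p M₁ M₂ (n - 1) ν ≤ K) :
    Cfsg.vertexVIter p M₁ M₂ n δ ≤ K := by
  refine iSup_le fun ⟨x, hx⟩ => ?_
  by_cases hxδ : δ = x
  · subst hxδ
    obtain ⟨μ, hμ⟩ := exists_adj h δ
    haveI := finite_edge h δ μ
    haveI := finite_stabilizer h δ
    obtain ⟨S⟩ := (inferInstance : Nonempty (Sylow p ↥(Cfsg.edgeStabilizer δ μ)))
    obtain ⟨P, hP⟩ := exists_sylow_vertex h hμ S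
    obtain ⟨P', hP'⟩ := exists_sylow_vertex_right h hμ S
    refine iSup_le fun R => ?_
    obtain ⟨g, rfl⟩ := MulAction.exists_smul_eq ↥(MulAction.stabilizer X δ) P R
    rw [map_conj_sylow, ← omegaOne_conj, hP]
    have hadj : (Cfsg.cosetGraph M₁ M₂).Adj δ ((g : X) • μ) := by
      have := Cfsg.Agent.S2745.adj_smul (g : X) hμ
      rwa [MulAction.mem_stabilizer_iff.mp g.2] at this
    exact ((Subgroup.map_mono (omega_center_le_vertexZ μ P' hP'.symm)).trans (vertexZ_smul_le h _ μ)).trans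
      ((vertexZ_le_vIter (by simp)).trans (hK _ hadj))
  · obtain ⟨b, hb, hd⟩ := exists_adj_dist h hxδ
    have hx' : (Cfsg.cosetGraph M₁ M₂).dist δ x ≤ n := hx
    have hbx : (Cfsg.cosetGraph M₁ M₂).dist b x ≤ n - 1 := by omega
    exact (vertexZ_le_vIter hbx).trans (hK b hb)

/-- `V_δ^{(n)}` is generated by one neighbour closure and `[V, O^p(O^{p'}(G_δ))]`. -/
theorem vIter_le_sup_commutator (h : Cfsg.IsSpeAmalgamPair p M₁ M₂) {n : ℕ} (hn : 1 ≤ n)
    {δ μ : Cfsg.CosetVertex M₁ M₂} (hadj : (Cfsg.cosetGraph M₁ M₂).Adj δ μ) :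
    Cfsg.vertexVIter p M₁ M₂ n δ ≤ Cfsg.vertexVIter p M₁ M₂ (n - 1) μ ⊔
      ⁅Cfsg.vertexVIter p M₁ M₂ n δ, (Cfsg.pResidual p ↥(Cfsg.pElementClosure p (MulAction.stabilizer X δ))).map
        (Cfsg.pElementClosure p (MulAction.stabilizer X δ)).subtype⁆ := by
  refine vIter_le_iSup h.1 hn δ fun ν hν => ?_
  obtain ⟨l, hl, rfl⟩ := residual_transitive h hadj hν
  intro x hx
  have h1 := vIter_smul_le h.1 l⁻¹ (n - 1) (l • μ) ⟨x, hx, rfl⟩
  rw [inv_smul_smul] at h1
  set w := (MulAut.conj l⁻¹).toMonoidHom x with hw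
  have hd : (Cfsg.cosetGraph M₁ M₂).dist δ μ + (n - 1) ≤ n := by
    rw [SimpleGraph.dist_eq_one_iff_adj.mpr hadj]; omega
  have hwV := vIter_le_vIter h.1 hd h1
  rw [show x = ⁅l, w⁆ * w by rw [hw, commutatorElement_def]; simp [mul_assoc]]
  refine Subgroup.mul_mem _ (Subgroup.mem_sup_right ?_) (Subgroup.mem_sup_left h1)
  rw [Subgroup.commutator_comm]
  exact Subgroup.commutator_mem_commutator hl hwV

/-- The closure is not generated by a neighbour closure alone. -/
theorem vIter_not_le_neighbour (h : Cfsg.IsCharPAmalgamPair p M₁ M₂) {n : ℕ} (hn : 1 ≤ n)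
    {δ μ : Cfsg.CosetVertex M₁ M₂} (hadj : (Cfsg.cosetGraph M₁ M₂).Adj δ μ)
    (hVQ : Cfsg.vertexVIter p M₁ M₂ n δ ≤ Cfsg.vertexQ p δ) :
    ¬ Cfsg.vertexVIter p M₁ M₂ n δ ≤ Cfsg.vertexVIter p M₁ M₂ (n - 1) μ := by
  intro hle
  have hd : (Cfsg.cosetGraph M₁ M₂).dist δ μ + (n - 1) ≤ n := by
    rw [SimpleGraph.dist_eq_one_iff_adj.mpr hadj]; omega
  have heq := le_antisymm hle (vIter_le_vIter h hd)
  have hbot : Cfsg.vertexVIter p M₁ M₂ n δ = ⊥ := by
    refine Cfsg.Agent.S2745.result M₁ M₂ h.1 δ μ hadj _ (le_inf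
      ((hVQ.trans (Subgroup.map_subtype_le _))) ?_) ?_ ?_
    · exact (hVQ.trans (Cfsg.Agent.S2746.result M₁ M₂ h δ)).trans (neighbourKernel_le_stabilizer hadj)
    · intro a b ha hb
      obtain ⟨g, hg, e⟩ := Cfsg.Agent.S2744.result M₁ M₂ δ a b ha hb
      exact ⟨g, ⟨le_normalizer_vIter h n δ hg, hg⟩, e⟩
    · intro a b ha hb
      obtain ⟨g, hg, e⟩ := Cfsg.Agent.S2744.result M₁ M₂ μ a b ha hb
      exact ⟨g, ⟨heq ▸ le_normalizer_vIter h (n - 1) μ hg, hg⟩, e⟩
  exact vertexZ_ne_bot h δ (le_bot_iff.mp (hbot ▸ vertexZ_le_vIter (by simp)))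

omit [Fact p.Prime] in
/-- A subgroup generated by a normal subgroup and its commutator with the whole nilpotent group. -/
theorem le_of_le_sup_commutator {A : Type*} [Group A] [Group.IsNilpotent A] {V W : Subgroup A} [W.Normal]
    (hle : V ≤ W ⊔ ⁅V, (⊤ : Subgroup A)⁆) : V ≤ W := by
  set f := QuotientGroup.mk' W with hf
  have h1 : V.map f ≤ ⁅V.map f, (⊤ : Subgroup (A ⧸ W))⁆ := by
    refine (Subgroup.map_mono hle).trans ?_
    rw [Subgroup.map_sup, Subgroup.map_commutator, hf, QuotientGroup.map_mk'_self, bot_sup_eq,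
      Subgroup.map_top_of_surjective _ (QuotientGroup.mk'_surjective W)]
  have h2 : ∀ k, V.map f ≤ (⊤ : Subgroup (A ⧸ W)).lowerCentralSeries k := by
    intro k
    induction k with
    | zero => simp
    | succ k ih =>
      rw [Subgroup.lowerCentralSeries_succ]
      exact h1.trans (Subgroup.commutator_mono ih le_rfl)
  obtain ⟨k, hk⟩ := Subgroup.nilpotent_iff_lowerCentralSeries.mp (inferInstance : Group.IsNilpotent (A ⧸ W))
  have h3 := h2 k
  rw [hk, le_bot_iff, Subgroup.map_eq_bot_iff, hf, QuotientGroup.ker_mk'] at h3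
  exact h3

end CfsgLib.Amalgam
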